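import Groth.Agent.ConsLib.ModLoci
import Groth.Agent.DescFP.Hom

/-! Models of morphisms of finite presentation of affine schemes over rings of finite type over the integers. -/

set_option autoImplicit false

universe u

open CategoryTheory CategoryTheory.Limits AlgebraicGeometry Topology RichLib.LimBC Groth.Agent

noncomputable section

namespace ConsLib

attribute [local instance] zAlgebra

/-- An affine scheme locally of finite type over the integers has sections of finite type over the integers. -/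
theorem finiteType_int_of_lft {X : Scheme.{u}} [IsAffine X] (p : X ⟶ Spec (CommRingCat.of (ULift.{u} ℤ)))
    [LocallyOfFiniteType p] : Algebra.FiniteType ℤ Γ(X, ⊤) := by
  have h : p.appTop.hom.FiniteType := (HasRingHomProperty.iff_of_isAffine (P := @LocallyOfFiniteType)).mp ‹_›
  let e : ℤ →+* Γ(Spec (CommRingCat.of (ULift.{u} ℤ)), ⊤) :=
    (Scheme.ΓSpecIso (CommRingCat.of (ULift.{u} ℤ))).inv.hom.comp ULift.ringEquiv.symm.toRingHom
  have he : e.FiniteType := RingHom.FiniteType.of_surjective _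
    ((Scheme.ΓSpecIso (CommRingCat.of (ULift.{u} ℤ))).symm.commRingCatIsoToRingEquiv.surjective.comp
      ULift.ringEquiv.symm.surjective)
  have := h.comp he
  rw [show p.appTop.hom.comp e = algebraMap ℤ Γ(X, ⊤) from RingHom.ext_int _ _,
    RingHom.finiteType_algebraMap] at this
  exact this

theorem isLocallyNoetherian_of_finiteType_int {S : Scheme.{u}} [IsAffine S]
    (hS : Algebra.FiniteType ℤ Γ(S, ⊤)) : IsLocallyNoetherian S := by
  haveI : IsNoetherianRing Γ(S, ⊤) := Algebra.FiniteType.isNoetherianRing ℤ _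
  exact isLocallyNoetherian_of_isOpenImmersion S.isoSpec.hom

/-- An affine scheme of finite type over the integers. -/
theorem exists_lfp_toSpecZ {S : Scheme.{u}} [IsAffine S] (hS : Algebra.FiniteType ℤ Γ(S, ⊤)) :
    ∃ p : S ⟶ Spec (CommRingCat.of (ULift.{u} ℤ)), LocallyOfFinitePresentation p := by
  let φ : ULift.{u} ℤ →+* Γ(S, ⊤) := (Int.castRingHom _).comp ULift.ringEquiv.toRingHom
  haveI : IsNoetherianRing (ULift.{u} ℤ) := isNoetherianRing_of_ringEquiv ℤ ULift.ringEquiv.symm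
  have hφ : φ.FiniteType := RingHom.FiniteType.of_comp_finiteType (f := ULift.ringEquiv.symm.toRingHom) <| by
    rw [show φ.comp ULift.ringEquiv.symm.toRingHom = algebraMap ℤ Γ(S, ⊤) from RingHom.ext_int _ _,
      RingHom.finiteType_algebraMap]
    exact hS
  haveI : LocallyOfFinitePresentation (Spec.map (CommRingCat.ofHom φ)) :=
    (HasRingHomProperty.Spec_iff (P := @LocallyOfFinitePresentation)).mpr
      (RingHom.FinitePresentation.of_finiteType.mp hφ)
  exact ⟨S.isoSpec.hom ≫ Spec.map (CommRingCat.ofHom φ), inferInstance⟩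

section Desc

variable {I : Type u} [SmallCategory I] [IsCofiltered I] {D : I ⥤ Scheme.{u}} {c : Cone D} (hc : IsLimit c)
  [∀ (i j : I) (f : i ⟶ j), IsAffineHom (D.map f)] {i : I} [CompactSpace (D.obj i)]
  {Xi Yi : Scheme.{u}} (xi : Xi ⟶ D.obj i) (yi : Yi ⟶ D.obj i)
  [CompactSpace Xi] [QuasiSeparatedSpace Xi] [LocallyOfFinitePresentation xi]
  [QuasiCompact xi] [QuasiSeparated xi] [QuasiCompact yi] [QuasiSeparated yi] [LocallyOfFinitePresentation yi]
  {X : Scheme.{u}} (qX : X ⟶ Xi) (pX : X ⟶ c.pt) (hX : IsPullback qX pX xi (c.π.app i))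
  (qY : X ⟶ Yi) (hY : IsPullback qY pX yi (c.π.app i))

include hc hX hY in
/-- Two models of the same scheme are isomorphic at a later stage. -/
theorem exists_iso_descend :
    ∃ (j : I) (φ : j ⟶ i) (e : pullback xi (D.map φ) ≅ pullback yi (D.map φ)),
      e.hom ≫ pullback.snd yi (D.map φ) = pullback.snd xi (D.map φ) := by
  obtain ⟨j, φ, fj, sX, sY, hfj, hX1, hX2, hY1, hY2, hf⟩ :=
    DescFP.exists_hom_descend hc xi yi qX pX hX qY pX hY (𝟙 X) (Category.id_comp _)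
  rw [Category.id_comp] at hf
  haveI : IsAffineHom (D.map φ) := inferInstance
  haveI : CompactSpace (D.obj j) := QuasiCompact.compactSpace_of_compactSpace (D.map φ)
  let xj := pullback.snd xi (D.map φ)
  let yj := pullback.snd yi (D.map φ)
  haveI : CompactSpace ↥(pullback xi (D.map φ)) :=
    QuasiCompact.compactSpace_of_compactSpace (pullback.fst xi (D.map φ))
  haveI : QuasiSeparatedSpace ↥(pullback xi (D.map φ)) :=
    quasiSeparatedSpace_of_quasiSeparated (pullback.fst xi (D.map φ))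
  haveI : CompactSpace ↥(pullback yi (D.map φ)) := QuasiCompact.compactSpace_of_compactSpace yj
  haveI : LocallyOfFinitePresentation (fj ≫ yj) := by rw [hfj]; infer_instance
  haveI : QuasiCompact (fj ≫ yj) := by rw [hfj]; infer_instance
  haveI : QuasiSeparated (fj ≫ yj) := by rw [hfj]; infer_instance
  haveI : LocallyOfFinitePresentation fj := Groth.Agent.S12442.result fj yj
  haveI : QuasiCompact fj := QuasiCompact.of_comp fj yj
  haveI : QuasiSeparated fj := QuasiSeparated.of_comp fj yj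
  let B := pb (ofStage D c hc j) yj
  have sqY : IsPullback sY pX yj (c.π.app j) :=
    IsPullback.of_right (by rw [hY1, c.w]; exact hY) hY2 (IsPullback.of_hasPullback yi (D.map φ))
  have sqX : IsPullback sX pX xj (c.π.app j) :=
    IsPullback.of_right (by rw [hX1, c.w]; exact hX) hX2 (IsPullback.of_hasPullback xi (D.map φ))
  have hlim : AtLim B fj (MorphismProperty.isomorphisms Scheme) := by
    let eY := sqY.isoPullback
    have h1 : IsPullback sX eY.hom fj B.s := by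
      refine IsPullback.of_bot ?_ ?_ (IsPullback.of_hasPullback yj (c.π.app j))
      · rw [sqY.isoPullback_hom_snd, hfj]; exact sqX
      · rw [hf]; exact sqY.isoPullback_hom_fst.symm
    show IsIso (pullback.snd fj B.s)
    exact h1.isoPullback_inv_snd ▸ (inferInstance : IsIso (h1.isoPullback.inv ≫ eY.hom))
  obtain ⟨ψ, hψ⟩ := exists_at_isIso B fj hlim
  haveI : IsIso (pullback.snd fj (B.t ψ)) := hψ
  let χ : ψ.left ⟶ i := ψ.hom ≫ φ
  let eX := (IsPullback.of_hasPullback xj (D.map ψ.hom)).paste_horiz (IsPullback.of_hasPullback xi (D.map φ))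
  let eY := (IsPullback.of_hasPullback yj (D.map ψ.hom)).paste_horiz (IsPullback.of_hasPullback yi (D.map φ))
  have h2 : IsPullback (pullback.fst fj (B.t ψ)) (pullback.snd fj (B.t ψ) ≫ pullback.snd yj (D.map ψ.hom))
      xj (D.map ψ.hom) := by
    rw [show xj = fj ≫ yj from hfj.symm]
    exact (IsPullback.of_hasPullback fj (B.t ψ)).paste_vert (IsPullback.of_hasPullback yj (D.map ψ.hom))
  let h2' := h2.paste_horiz (IsPullback.of_hasPullback xi (D.map φ))
  have hX3 : IsPullback (pullback.fst fj (B.t ψ) ≫ pullback.fst xi (D.map φ))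
      (pullback.snd fj (B.t ψ) ≫ pullback.snd yj (D.map ψ.hom)) xi (D.map χ) := by rw [D.map_comp]; exact h2'
  have hY3 : IsPullback (pullback.fst yj (D.map ψ.hom) ≫ pullback.fst yi (D.map φ))
      (pullback.snd yj (D.map ψ.hom)) yi (D.map χ) := by rw [D.map_comp]; exact eY
  refine ⟨ψ.left, χ, hX3.isoPullback.symm ≪≫ asIso (pullback.snd fj (B.t ψ)) ≪≫ hY3.isoPullback, ?_⟩
  simp only [Iso.trans_hom, Iso.symm_hom, asIso_hom, Category.assoc]
  exact (congrArg (fun z => hX3.isoPullback.inv ≫ pullback.snd fj (B.t ψ) ≫ z) hY3.isoPullback_hom_snd).trans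
    hX3.isoPullback_inv_snd

end Desc

variable {X S : Scheme.{u}} [IsAffine X] [IsAffine S] (f : X ⟶ S) [LocallyOfFinitePresentation f]

/-- An affine model at some stage of the system of rings of finite type over the integers. -/
theorem exists_affine_model :
    ∃ (i : (FGSub (ULift.{u} ℤ) (Γ(S, ⊤) : Type u))ᵒᵖ)
      (N : DescFP.Model (zSys (Γ(S, ⊤) : Type u)).c (f ≫ S.isoSpec.hom ≫ (zSysIso _).inv) i), IsAffine N.Z := by
  let A := zSys (Γ(S, ⊤) : Type u)
  haveI : ∀ i j (a : i ⟶ j), IsAffineHom (A.D.map a) := fun _ _ a => A.affine_map a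
  haveI : ∀ i, IsNoetherian (A.D.obj i) := fun i => zSys_obj _ i
  haveI : QuasiCompact f := inferInstance
  obtain ⟨i, ⟨N⟩⟩ := DescFP.exists_model A.hc (f ≫ S.isoSpec.hom ≫ (zSysIso _).inv)
  haveI := N.compactSpace
  haveI := N.quasiSeparatedSpace
  let B := pb (ofStage A.D A.c A.hc i) N.p
  haveI : ∀ {k l : Over i} (b : k ⟶ l), IsAffineHom (B.D.map b) := fun b => B.affine_map b
  haveI := B.compactSpace_obj
  haveI := B.quasiSeparatedSpace_obj
  haveI : IsAffine B.c.pt := .of_isIso N.sq.isoPullback.inv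
  obtain ⟨φ, hφ⟩ := Scheme.exists_isAffine_of_isLimit B.D B.c B.hc
  exact ⟨φ.left, N.push φ.hom, hφ⟩

theorem zSys_affine (i : (FGSub (ULift.{u} ℤ) (Γ(S, ⊤) : Type u))ᵒᵖ) :
    IsAffine ((zSys (Γ(S, ⊤) : Type u)).D.obj i) :=
  haveI := (zSys (Γ(S, ⊤) : Type u)).affine i
  isAffine_of_isAffineHom ((zSys (Γ(S, ⊤) : Type u)).t i)

theorem zSys_finiteType (i : (FGSub (ULift.{u} ℤ) (Γ(S, ⊤) : Type u))ᵒᵖ) :
    Algebra.FiniteType ℤ Γ((zSys (Γ(S, ⊤) : Type u)).D.obj i, ⊤) :=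
  haveI := zSys_affine (S := S) i
  haveI : LocallyOfFiniteType ((zSys (Γ(S, ⊤) : Type u)).t i) := locallyOfFiniteType_fgSys_t _ _ _ i
  finiteType_int_of_lft ((zSys (Γ(S, ⊤) : Type u)).t i)

theorem exists_affine_approximation :
    ∃ (X₀ S₀ : Scheme.{u}) (f₀ : X₀ ⟶ S₀) (g : S ⟶ S₀) (g' : X ⟶ X₀), IsAffine X₀ ∧ IsAffine S₀ ∧
      IsPullback g' f f₀ g ∧ Algebra.FiniteType ℤ Γ(S₀, ⊤) ∧ LocallyOfFiniteType f₀ := by
  obtain ⟨i, N, hN⟩ := exists_affine_model f
  haveI := N.lfp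
  refine ⟨N.Z, _, N.p, (S.isoSpec.hom ≫ (zSysIso _).inv) ≫ (zSys (Γ(S, ⊤) : Type u)).c.π.app i, N.g, hN,
    zSys_affine i, ?_, zSys_finiteType i, inferInstance⟩
  exact N.sq.of_iso (Iso.refl _) (Iso.refl _) (S.isoSpec ≪≫ (zSysIso _).symm).symm (Iso.refl _)
    (by simp) (by simp) (by simp) (by simp)

theorem exists_affine_approximation_mod (F : X.Modules) [Coh.IsQCoh F] (hF : CohB1.IsFP F) :
    ∃ (X₀ S₀ : Scheme.{u}) (f₀ : X₀ ⟶ S₀) (g : S ⟶ S₀) (g' : X ⟶ X₀), IsAffine X₀ ∧ IsAffine S₀ ∧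
      IsPullback g' f f₀ g ∧ Algebra.FiniteType ℤ Γ(S₀, ⊤) ∧ LocallyOfFiniteType f₀ ∧
      ∃ F₀ : X₀.Modules, Coh.IsCoh F₀ ∧ Nonempty ((Scheme.Modules.pullback g').obj F₀ ≅ F) := by
  let A := zSys (Γ(S, ⊤) : Type u)
  haveI : ∀ i j (a : i ⟶ j), IsAffineHom (A.D.map a) := fun _ _ a => A.affine_map a
  haveI : ∀ i, IsNoetherian (A.D.obj i) := fun i => zSys_obj _ i
  obtain ⟨i, N, hN⟩ := exists_affine_model f
  let B := pb (ofStage A.D A.c A.hc i) N.p
  haveI : ∀ k l (b : k ⟶ l), IsAffineHom (B.D.map b) := fun _ _ b => B.affine_map b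
  haveI := N.lfp
  haveI hlft : LocallyOfFiniteType N.p := inferInstance
  haveI : ∀ φ : Over i, IsNoetherian (B.D.obj φ) := fun φ =>
    @ConsLib.isNoetherian_of_ft _ _ (pullback.snd N.p (A.D.map φ.hom)) (zSys_obj _ φ.left)
      (MorphismProperty.pullback_snd _ _ hlft) (MorphismProperty.pullback_snd _ _ N.qc)
  let eY := N.sq.isoPullback
  let c' : Cone B.D := B.c.extend eY.hom
  have hc' : IsLimit c' := B.hc.ofIsoLimit (Cone.ext eY.symm (fun φ => by simp [c', Cone.extend]))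
  obtain ⟨φ, G, hG, hGF⟩ := ModDescLib.exists_coh_pullback (c := c') hc' F
    (fun x => FlatLib.exists_presentation_nhd hF x)
  let g₀ : B.D.obj φ ⟶ A.D.obj φ.left := pullback.snd N.p (A.D.map φ.hom)
  haveI := B.affine φ
  haveI : LocallyOfFiniteType g₀ := MorphismProperty.pullback_snd _ _ hlft
  refine ⟨B.D.obj φ, A.D.obj φ.left, g₀, (S.isoSpec.hom ≫ (zSysIso _).inv) ≫ A.c.π.app φ.left,
    eY.hom ≫ B.c.π.app φ, isAffine_of_isAffineHom (B.t φ), zSys_affine φ.left, ?_, zSys_finiteType φ.left,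
    inferInstance, G, hG, hGF⟩
  refine (isPullback_cone (ofStage A.D A.c A.hc i) N.p φ).of_iso eY.symm (Iso.refl _)
      (S.isoSpec ≪≫ (zSysIso _).symm).symm (Iso.refl _) ?_ ?_ ?_ ?_
  · exact (Category.comp_id _).trans (Iso.inv_hom_id_assoc _ _).symm
  · have h1 : eY.hom ≫ pullback.snd N.p (A.c.π.app i) = f ≫ S.isoSpec.hom ≫ (zSysIso _).inv :=
      N.sq.isoPullback_hom_snd
    rw [Iso.symm_hom, Iso.symm_hom, Iso.eq_inv_comp, ← Category.assoc, Iso.comp_inv_eq]
    exact h1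
  · simp [g₀]; rfl
  · exact (Category.comp_id _).trans (Iso.inv_hom_id_assoc _ _).symm

/-- Two models can be combined. -/
theorem exists_affine_approximation_combine (P Q : MorphismProperty Scheme.{u}) [P.IsStableUnderBaseChange]
    [Q.IsStableUnderBaseChange] {X₁ S₁ X₂ S₂ : Scheme.{u}} [IsAffine X₁] [IsAffine S₁] [IsAffine X₂] [IsAffine S₂]
    (f₁ : X₁ ⟶ S₁) (g₁ : S ⟶ S₁) (g₁' : X ⟶ X₁) (h₁ : IsPullback g₁' f f₁ g₁)
    (f₂ : X₂ ⟶ S₂) (g₂ : S ⟶ S₂) (g₂' : X ⟶ X₂) (h₂ : IsPullback g₂' f f₂ g₂)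
    (hS₁ : Algebra.FiniteType ℤ Γ(S₁, ⊤)) (hS₂ : Algebra.FiniteType ℤ Γ(S₂, ⊤))
    [LocallyOfFiniteType f₁] [LocallyOfFiniteType f₂] (hP : P f₁) (hQ : Q f₂) :
    ∃ (X₀ S₀ : Scheme.{u}) (f₀ : X₀ ⟶ S₀) (g : S ⟶ S₀) (g' : X ⟶ X₀), IsAffine X₀ ∧ IsAffine S₀ ∧
      IsPullback g' f f₀ g ∧ Algebra.FiniteType ℤ Γ(S₀, ⊤) ∧ LocallyOfFiniteType f₀ ∧ P f₀ ∧ Q f₀ := by
  let A := zSys (Γ(S, ⊤) : Type u)
  haveI : ∀ i j (a : i ⟶ j), IsAffineHom (A.D.map a) := fun _ _ a => A.affine_map a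
  haveI : ∀ i, IsNoetherian (A.D.obj i) := fun i => zSys_obj _ i
  haveI := isLocallyNoetherian_of_finiteType_int hS₁
  haveI := isLocallyNoetherian_of_finiteType_int hS₂
  let e : S ≅ A.c.pt := S.isoSpec ≪≫ (zSysIso _).symm
  have hlift : ∀ {T : Scheme.{u}} [IsAffine T] (_ : Algebra.FiniteType ℤ Γ(T, ⊤)) (a : A.c.pt ⟶ T),
      ∃ (i : (FGSub (ULift.{u} ℤ) (Γ(S, ⊤) : Type u))ᵒᵖ) (h : A.D.obj i ⟶ T), A.c.π.app i ≫ h = a := by
    intro T _ hT a
    obtain ⟨p, hp⟩ := exists_lfp_toSpecZ hT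
    haveI := hp
    let t : A.D ⟶ (Functor.const _).obj (Spec (CommRingCat.of (ULift.{u} ℤ))) :=
      { app := A.t, naturality := fun k l b => by simp }
    obtain ⟨i, h, h1, -⟩ := Scheme.exists_π_app_comp_eq_of_locallyOfFinitePresentation A.D t
      (X := T) p A.c A.hc a (by
        ext k
        exact specULiftZIsTerminal.hom_ext _ _)
    exact ⟨i, h, h1⟩
  obtain ⟨i₁, s₁, hs₁⟩ := hlift hS₁ (e.inv ≫ g₁)
  obtain ⟨i₂, s₂, hs₂⟩ := hlift hS₂ (e.inv ≫ g₂)
  let i := IsCofiltered.min i₁ i₂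
  let t₁ : A.D.obj i ⟶ S₁ := A.D.map (IsCofiltered.minToLeft i₁ i₂) ≫ s₁
  let t₂ : A.D.obj i ⟶ S₂ := A.D.map (IsCofiltered.minToRight i₁ i₂) ≫ s₂
  have ht₁ : A.c.π.app i ≫ t₁ = e.inv ≫ g₁ := by rw [← hs₁, ← Category.assoc, A.c.w]
  have ht₂ : A.c.π.app i ≫ t₂ = e.inv ≫ g₂ := by rw [← hs₂, ← Category.assoc, A.c.w]
  have hsq : ∀ {X' S' : Scheme.{u}} (f' : X' ⟶ S') (g₀ : S ⟶ S') (g₀' : X ⟶ X') (_ : IsPullback g₀' f f' g₀)
      (t : A.D.obj i ⟶ S') (_ : A.c.π.app i ≫ t = e.inv ≫ g₀),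
      ∃ q : X ⟶ pullback f' t, IsPullback q (f ≫ e.hom) (pullback.snd f' t) (A.c.π.app i) := by
    intro X' S' f' g₀ g₀' h t ht
    have h' : IsPullback g₀' (f ≫ e.hom) f' (A.c.π.app i ≫ t) := by
      rw [ht]
      exact h.of_iso (Iso.refl _) (Iso.refl _) e (Iso.refl _) (by simp) (by simp) (by simp) (by simp)
    refine ⟨pullback.lift g₀' ((f ≫ e.hom) ≫ A.c.π.app i) (by rw [h'.w, ← Category.assoc]),
      IsPullback.of_right (by rw [pullback.lift_fst]; exact h') (pullback.lift_snd _ _ _)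
        (IsPullback.of_hasPullback f' t)⟩
  obtain ⟨q₁, sq₁⟩ := hsq f₁ g₁ g₁' h₁ t₁ ht₁
  obtain ⟨q₂, sq₂⟩ := hsq f₂ g₂ g₂' h₂ t₂ ht₂
  haveI := zSys_affine (S := S) i
  haveI : LocallyOfFinitePresentation f₁ := inferInstance
  haveI : LocallyOfFinitePresentation f₂ := inferInstance
  obtain ⟨j, φ, ε, hε⟩ := exists_iso_descend A.hc (pullback.snd f₁ t₁) (pullback.snd f₂ t₂) q₁ (f ≫ e.hom) sq₁ q₂ sq₂
  haveI := zSys_affine (S := S) j
  let f₀ := pullback.snd (pullback.snd f₁ t₁) (A.D.map φ)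
  refine ⟨_, A.D.obj j, f₀, e.hom ≫ A.c.π.app j,
    pullback.lift q₁ ((f ≫ e.hom) ≫ A.c.π.app j) (by simp only [sq₁.w, Category.assoc, A.c.w]),
    inferInstance, inferInstance, ?_, zSys_finiteType j, inferInstance, ?_, ?_⟩
  · have := IsPullback.of_right (h₁₁ := pullback.lift q₁ ((f ≫ e.hom) ≫ A.c.π.app j)
        (by simp only [sq₁.w, Category.assoc, A.c.w])) (by rw [pullback.lift_fst, A.c.w]; exact sq₁)
      (pullback.lift_snd _ _ _) (IsPullback.of_hasPullback (pullback.snd f₁ t₁) (A.D.map φ))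
    exact this.of_iso (Iso.refl _) (Iso.refl _) e.symm (Iso.refl _) (by simp) (by simp) (by simp [f₀]) (by simp)
  · exact MorphismProperty.pullback_snd _ _ (MorphismProperty.pullback_snd _ _ hP)
  · show Q f₀
    rw [← show ε.hom ≫ pullback.snd (pullback.snd f₂ t₂) (A.D.map φ) = f₀ from hε,
      MorphismProperty.cancel_left_of_respectsIso Q]
    exact MorphismProperty.pullback_snd _ _ (MorphismProperty.pullback_snd _ _ hQ)

end ConsLib
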