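import Groth.Prelude.Def_EGA4Misc
import Groth.Agent.S3401
import Groth.Agent.ProConsLib.Sch
import Groth.Agent.DevissLib.ClosedImm

/-! Loci of constructible properties over noetherian bases. -/

set_option autoImplicit false

universe u

open CategoryTheory CategoryTheory.Limits AlgebraicGeometry Topology Groth.Agent

noncomputable section

namespace ConsLib

theorem genericPoint_mem_interior {S : Type*} [TopologicalSpace S] [QuasiSober S] [IrreducibleSpace S]
    {E : Set S} (h : (interior E).Nonempty) : genericPoint S ∈ interior E := by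
  obtain ⟨x, hx⟩ := h
  exact (genericPoint_specializes x).mem_open isOpen_interior hx

/-- The fibre square of the morphism of fibres. -/
theorem isPullback_fiberMap {X Y S : Scheme.{u}} (f : X ⟶ Y) (g : Y ⟶ S) (s : S) :
    IsPullback ((f ≫ g).fiberι s) (MoreMor.fiberMap f g s) f (g.fiberι s) := by
  have h1 : MoreMor.fiberMap f g s ≫ g.fiberToSpecResidueField s = (f ≫ g).fiberToSpecResidueField s :=
    pullback.lift_snd _ _ _
  have h2 : MoreMor.fiberMap f g s ≫ g.fiberι s = (f ≫ g).fiberι s ≫ f := pullback.lift_fst _ _ _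
  refine IsPullback.of_bot ?_ h2.symm (IsPullback.of_hasPullback g (S.fromSpecResidueField s))
  show IsPullback ((f ≫ g).fiberι s) (MoreMor.fiberMap f g s ≫ g.fiberToSpecResidueField s) _ _
  rw [h1]
  exact IsPullback.of_hasPullback (f ≫ g) (S.fromSpecResidueField s)

/-- The fibre data over a point only depends on the point up to field extension. -/
theorem fib_iff {P : ∀ ⦃Y T : Scheme.{u}⦄, (Y ⟶ T) → Prop} (hP : ConsProp.IsFieldStable P)
    {X X' Y Y' : Scheme.{u}} {f : X ⟶ Y} {f' : X' ⟶ Y'} {eX : X' ⟶ X} {eY : Y' ⟶ Y}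
    [LocallyOfFiniteType f] [QuasiCompact f] (h : IsPullback eX f' f eY) (y : Y') :
    P (f.fiberToSpecResidueField (eY y)) ↔ P (f'.fiberToSpecResidueField y) := by
  haveI : LocallyOfFiniteType (f.fiberToSpecResidueField (eY y)) := MorphismProperty.pullback_snd _ _ inferInstance
  haveI : QuasiCompact (f.fiberToSpecResidueField (eY y)) := MorphismProperty.pullback_snd _ _ inferInstance
  haveI : Subsingleton ↥(Spec (Y.residueField (eY y))) := inferInstanceAs (Subsingleton (PrimeSpectrum _))
  haveI : Subsingleton ↥(Spec (Y'.residueField y)) := inferInstanceAs (Subsingleton (PrimeSpectrum _))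
  exact hP _ _ _ _ (isPullback_fiberToSpecResidueField_of_isPullback h y)

theorem locus_preimage {P : ∀ ⦃Y T : Scheme.{u}⦄, (Y ⟶ T) → Prop} (hP : ConsProp.IsFieldStable P)
    {X X' Y Y' : Scheme.{u}} {f : X ⟶ Y} {f' : X' ⟶ Y'} {eX : X' ⟶ X} {eY : Y' ⟶ Y}
    [LocallyOfFiniteType f] [QuasiCompact f] (h : IsPullback eX f' f eY) :
    ConsProp.locus P f' = eY ⁻¹' ConsProp.locus P f :=
  Set.ext fun y => (fib_iff hP h y).symm

/-- Ind-constructibility of the loci over locally noetherian bases. -/
theorem isIndConstructible_locus {P : ∀ ⦃Y T : Scheme.{u}⦄, (Y ⟶ T) → Prop} (hP : ConsProp.IsIndCons P)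
    {X S : Scheme.{u}} [IsNoetherian S] (f : X ⟶ S) [LocallyOfFiniteType f] [QuasiCompact f] :
    ProCons.IsIndConstructible (ConsProp.locus P f) := by
  rw [Groth.Agent.S3401.result]
  intro x hx
  obtain ⟨Z, i, hi, hZ, hr⟩ :=
    DevissLib.exists_integral_closed (isClosed_closure (s := {x})) (isIrreducible_singleton (x := x)).closure
  haveI := hi
  haveI := hZ
  haveI : IsLocallyNoetherian Z := LocallyOfFiniteType.isLocallyNoetherian i
  haveI : CompactSpace Z := QuasiCompact.compactSpace_of_compactSpace i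
  haveI : IsNoetherian Z := { }
  have hpre := locus_preimage hP.1 (IsPullback.of_hasPullback f i)
  have hgen : i (genericPoint Z) = x := by
    refine ((genericPoint_spec Z).image i.continuous).eq ?_
    change closure {x} = closure (⇑i '' Set.univ)
    rw [Set.image_univ, hr, closure_closure]
  have hmem : genericPoint Z ∈ ConsProp.locus P (pullback.snd f i) := by
    rw [hpre, Set.mem_preimage, hgen]; exact hx
  have hint := genericPoint_mem_interior (hP.2 (pullback.snd f i) hmem)
  rw [hpre] at hint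
  obtain ⟨V, hV, hVeq⟩ := i.isEmbedding.isInducing.isOpen_iff.mp (isOpen_interior (s := i ⁻¹' ConsProp.locus P f))
  refine mem_nhds_iff.mpr ⟨Subtype.val ⁻¹' V, ?_, hV.preimage continuous_subtype_val, ?_⟩
  · rintro ⟨z, hz⟩ hzV
    obtain ⟨w, rfl⟩ := hr.ge hz
    have hw : w ∈ interior (i ⁻¹' ConsProp.locus P f) := hVeq.le hzV
    exact interior_subset (s := i ⁻¹' ConsProp.locus P f) hw
  · show x ∈ V
    rw [← hgen]
    exact hVeq.ge hint

theorem indCons_of_cons {P : ∀ ⦃Y T : Scheme.{u}⦄, (Y ⟶ T) → Prop} (hP : ConsProp.IsCons P) :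
    ConsProp.IsIndCons P :=
  ⟨hP.1, fun X S u _ _ _ _ hη => (hP.2 u).resolve_right fun h =>
    interior_subset (genericPoint_mem_interior h) hη⟩

theorem cons_compl {P : ∀ ⦃Y T : Scheme.{u}⦄, (Y ⟶ T) → Prop} (hP : ConsProp.IsCons P) :
    ConsProp.IsCons (fun Y T g => ¬ P g) := by
  refine ⟨fun Y Y' T T' g g' e h _ _ _ _ _ _ hc => not_congr (hP.1 g g' e h hc), fun X S u _ _ _ _ => ?_⟩
  have e : ConsProp.locus (fun Y T g => ¬ P g) u = (ConsProp.locus P u)ᶜ := rfl
  rw [e, compl_compl]
  exact (hP.2 u).symm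

/-- Constructibility of the loci over noetherian bases. -/
theorem isLocallyConstructible_locus {P : ∀ ⦃Y T : Scheme.{u}⦄, (Y ⟶ T) → Prop} (hP : ConsProp.IsCons P)
    {X S : Scheme.{u}} [IsNoetherian S] (f : X ⟶ S) [LocallyOfFiniteType f] [QuasiCompact f] :
    Topology.IsLocallyConstructible (ConsProp.locus P f) :=
  ProConsLib.isLocallyConstructible_iff_ind_and_pro.mpr ⟨isIndConstructible_locus (indCons_of_cons hP) f,
    ProConsLib.isIndConstructible_compl_iff.mp (isIndConstructible_locus (indCons_of_cons (cons_compl hP)) f)⟩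

/-- The fibrewise locus of a property of the fibres of `f`. -/
theorem locusMor_forall_fiber {P : ∀ ⦃Y T : Scheme.{u}⦄, (Y ⟶ T) → Prop} (hP : ConsProp.IsFieldStable P)
    {X Y S : Scheme.{u}} (f : X ⟶ Y) (g : Y ⟶ S) [LocallyOfFiniteType f] [QuasiCompact f] :
    ConsProp.locusMor (fun X Y T f g => ∀ y : ↥Y, P (f.fiberToSpecResidueField y)) f g =
      (g '' (ConsProp.locus P f)ᶜ)ᶜ := by
  ext s
  simp only [ConsProp.locusMor, Set.mem_setOf_eq, Set.mem_compl_iff, Set.mem_image, not_exists, not_and]
  constructor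
  · intro h y hy hys
    obtain ⟨z, hz⟩ : y ∈ Set.range (g.fiberι s) := by rw [g.range_fiberι]; exact hys
    refine hy ?_
    show P (f.fiberToSpecResidueField y)
    rw [← hz]
    exact (fib_iff hP (isPullback_fiberMap f g s) z).mpr (h z)
  · intro h z
    rw [← fib_iff hP (isPullback_fiberMap f g s) z]
    by_contra hy
    exact h _ hy ((g.range_fiberι s).subset (Set.mem_range_self z))

theorem isFieldStableMor_forall_fiber {P : ∀ ⦃Y T : Scheme.{u}⦄, (Y ⟶ T) → Prop} (hP : ConsProp.IsFieldStable P) :
    ConsProp.IsFieldStableMor (fun X Y T f g => ∀ y : ↥Y, P (f.fiberToSpecResidueField y)) := by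
  intro X X' Y Y' T T' f g f' g' eX eY h _ _ _ _ _ _ _ _ hY hX
  haveI : LocallyOfFiniteType f := locallyOfFiniteType_of_comp f g
  haveI : IsLocallyArtinian T := inferInstance
  haveI : IsLocallyNoetherian Y := LocallyOfFiniteType.isLocallyNoetherian g
  haveI : QuasiCompact f := QuasiCompact.of_comp f g
  haveI : Surjective eY := MorphismProperty.of_isPullback (P := @Surjective) hY.flip
    ⟨fun t => ⟨Classical.arbitrary T', Subsingleton.elim _ _⟩⟩
  refine ⟨fun H y => (fib_iff hP hX y).mp (H _), fun H y => ?_⟩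
  obtain ⟨y', rfl⟩ := eY.surjective y
  exact (fib_iff hP hX y').mpr (H y')

theorem mem_interior_of_indConstructible {S : Scheme.{u}} [IrreducibleSpace S] {E : Set S}
    (hE : ProCons.IsIndConstructible E) (h : genericPoint S ∈ E) : genericPoint S ∈ interior E :=
  (ProConsLib.mem_interior_iff_forall_specializes hE _).mpr fun y hy => by
    rw [(hy.antisymm (genericPoint_specializes y)).eq]; exact h

/-- The complement of the bad image. -/
theorem proConstructible_image_compl {P : ∀ ⦃Y T : Scheme.{u}⦄, (Y ⟶ T) → Prop} (hP : ConsProp.IsIndCons P)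
    {X Y S : Scheme.{u}} (f : X ⟶ Y) (g : Y ⟶ S) [IsNoetherian Y] [LocallyOfFiniteType f] [QuasiCompact f]
    [QuasiCompact g] : ProCons.IsIndConstructible (g '' (ConsProp.locus P f)ᶜ)ᶜ :=
  ProConsLib.isIndConstructible_compl_iff.mpr
    (ProConsLib.isProConstructible_image g
      (ProConsLib.isProConstructible_compl_iff.mpr (isIndConstructible_locus hP f)))

theorem isNoetherian_of_ft {Y S : Scheme.{u}} (g : Y ⟶ S) [IsNoetherian S] [LocallyOfFiniteType g]
    [QuasiCompact g] : IsNoetherian Y := by
  haveI : IsLocallyNoetherian Y := LocallyOfFiniteType.isLocallyNoetherian g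
  haveI : CompactSpace Y := QuasiCompact.compactSpace_of_compactSpace g
  exact { }

theorem isIndConsMor_forall_fiber {P : ∀ ⦃Y T : Scheme.{u}⦄, (Y ⟶ T) → Prop} (hP : ConsProp.IsIndCons P) :
    ConsProp.IsIndConsMor (fun X Y T f g => ∀ y : ↥Y, P (f.fiberToSpecResidueField y)) := by
  refine ⟨isFieldStableMor_forall_fiber hP.1, ?_⟩
  intro X Y S f g _ _ _ _ _ _ hη
  haveI := isNoetherian_of_ft g
  haveI : LocallyOfFiniteType f := locallyOfFiniteType_of_comp f g
  haveI : QuasiCompact f := QuasiCompact.of_comp f g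
  rw [locusMor_forall_fiber hP.1] at hη ⊢
  exact ⟨_, mem_interior_of_indConstructible (proConstructible_image_compl hP f g) hη⟩

theorem isConsMor_forall_fiber {P : ∀ ⦃Y T : Scheme.{u}⦄, (Y ⟶ T) → Prop} (hP : ConsProp.IsCons P) :
    ConsProp.IsConsMor (fun X Y T f g => ∀ y : ↥Y, P (f.fiberToSpecResidueField y)) := by
  refine ⟨isFieldStableMor_forall_fiber hP.1, ?_⟩
  intro X Y S f g _ _ _ _ _ _
  haveI := isNoetherian_of_ft g
  haveI : LocallyOfFiniteType f := locallyOfFiniteType_of_comp f g
  haveI : QuasiCompact f := QuasiCompact.of_comp f g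
  rw [locusMor_forall_fiber hP.1, compl_compl]
  by_cases h : genericPoint S ∈ (g '' (ConsProp.locus P f)ᶜ)ᶜ
  · exact .inl ⟨_, mem_interior_of_indConstructible (proConstructible_image_compl (indCons_of_cons hP) f g) h⟩
  · haveI := (LocallyOfFinitePresentation.iff_locallyOfFiniteType.2 inferInstance : LocallyOfFinitePresentation g)
    exact .inr ⟨_, mem_interior_of_indConstructible (ProConsLib.isIndConstructible_image g
      (ProConsLib.isIndConstructible_of_isLocallyConstructible (ProConsLib.isLocallyConstructible_compl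
        (isLocallyConstructible_locus hP f)))) (not_not.mp h)⟩

end ConsLib
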