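import Groth.Agent.ConsLib.FGSystem
import Groth.Agent.ConsLib.Basic
import Groth.Agent.DescFP.Main
import Groth.Agent.RichLib.FibreRange
import Groth.Prelude.Def_W4ega4s0809p4Pair

/-! Constructibility over an arbitrary base of loci of constructible properties, and limits. -/

set_option autoImplicit false

universe u

open CategoryTheory CategoryTheory.Limits AlgebraicGeometry Topology RichLib.LimBC Groth.Agent

noncomputable section

namespace ConsLib

theorem isIndConstructible_of_generic {S : Scheme.{u}} [IsNoetherian S] {E : Set S}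
    (H : ∀ {Z : Scheme.{u}} [IsIntegral Z] [IsNoetherian Z] (i : Z ⟶ S) [IsClosedImmersion i],
      i (genericPoint Z) ∈ E → (interior (i ⁻¹' E)).Nonempty) :
    ProCons.IsIndConstructible E := by
  rw [Groth.Agent.S3401.result]
  intro x hx
  obtain ⟨Z, i, hi, hZ, hr⟩ :=
    DevissLib.exists_integral_closed (isClosed_closure (s := {x})) (isIrreducible_singleton (x := x)).closure
  haveI := hi
  haveI := hZ
  haveI : IsLocallyNoetherian Z := LocallyOfFiniteType.isLocallyNoetherian i
  haveI : CompactSpace Z := QuasiCompact.compactSpace_of_compactSpace i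
  haveI : IsNoetherian Z := { }
  have hgen : i (genericPoint Z) = x := by
    refine ((genericPoint_spec Z).image i.continuous).eq ?_
    change closure {x} = closure (⇑i '' Set.univ)
    rw [Set.image_univ, hr, closure_closure]
  have hint := genericPoint_mem_interior (H i (by rw [hgen]; exact hx))
  obtain ⟨V, hV, hVeq⟩ := i.isEmbedding.isInducing.isOpen_iff.mp (isOpen_interior (s := i ⁻¹' E))
  refine mem_nhds_iff.mpr ⟨Subtype.val ⁻¹' V, ?_, hV.preimage continuous_subtype_val, ?_⟩
  · rintro ⟨z, hz⟩ hzV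
    obtain ⟨w, rfl⟩ := hr.ge hz
    have hw : w ∈ interior (i ⁻¹' E) := hVeq.le hzV
    exact interior_subset (s := i ⁻¹' E) hw
  · show x ∈ V
    rw [← hgen]
    exact hVeq.ge hint

theorem isLocallyConstructible_of_generic {S : Scheme.{u}} [IsNoetherian S] {E : Set S}
    (H : ∀ {Z : Scheme.{u}} [IsIntegral Z] [IsNoetherian Z] (i : Z ⟶ S) [IsClosedImmersion i],
      (interior (i ⁻¹' E)).Nonempty ∨ (interior (i ⁻¹' E)ᶜ).Nonempty) :
    IsLocallyConstructible E := by
  refine ProConsLib.isLocallyConstructible_iff_ind_and_pro.mpr ⟨isIndConstructible_of_generic fun {Z} _ _ i _ hη =>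
    (H i).resolve_right fun h => interior_subset (s := (i ⁻¹' E)ᶜ) (genericPoint_mem_interior h) hη, ?_⟩
  exact ProConsLib.isIndConstructible_compl_iff.mp (isIndConstructible_of_generic fun {Z} _ _ i _ hη =>
    (H i).resolve_left fun h => hη (interior_subset (s := i ⁻¹' E) (genericPoint_mem_interior h)))

theorem isLocallyConstructible_preimage {X Y : Scheme.{u}} (f : X ⟶ Y) {E : Set Y} (h : IsLocallyConstructible E) :
    IsLocallyConstructible (f ⁻¹' E) := by
  rw [ProConsLib.isLocallyConstructible_iff_ind_and_pro] at h ⊢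
  exact ⟨ProConsLib.isIndConstructible_preimage f h.1, ProConsLib.isProConstructible_preimage f h.2⟩

/-- An ind-constructible set containing the image of the limit contains the image of a stage. -/
theorem exists_stage_subset {I : Type u} [SmallCategory I] [IsCofiltered I] (D : I ⥤ Scheme.{u}) (c : Cone D)
    (hc : IsLimit c) [∀ (i j : I) (a : i ⟶ j), IsAffineHom (D.map a)] (i₀ : I) [CompactSpace (D.obj i₀)]
    {E : Set (D.obj i₀)} (hE : ProCons.IsIndConstructible E) (h : ∀ s, c.π.app i₀ s ∈ E) :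
    ∃ (j : I) (φ : j ⟶ i₀), ∀ t, D.map φ t ∈ E := by
  classical
  obtain ⟨J, hJ⟩ := ProConsLib.exists_finset_inter_subset hE (fun φ : Over i₀ => Set.range (D.map φ.hom))
    (fun φ => by
      rw [← Set.image_univ]
      exact ProConsLib.isProConstructible_image _
        (ProConsLib.isProConstructible_of_isLocallyConstructible .univ)) (by
    intro x hx
    let p := (D.obj i₀).fromSpecResidueField x
    let B := pb (ofStage D c hc i₀) p
    haveI : ∀ {k l : Over i₀} (b : k ⟶ l), IsAffineHom (B.D.map b) := fun b => B.affine_map b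
    haveI : CompactSpace (Spec ((D.obj i₀).residueField x)) := inferInstance
    haveI := B.compactSpace_obj
    haveI : ∀ φ, Nonempty (B.D.obj φ) := fun φ => by
      obtain ⟨t, ht⟩ := Set.mem_iInter.mp hx φ
      obtain ⟨z, -, -⟩ := Scheme.Pullback.exists_preimage_pullback (f := p) (g := D.map φ.hom)
        (Classical.arbitrary _) t (by rw [Scheme.fromSpecResidueField_apply, ht])
      exact ⟨z⟩
    obtain ⟨z⟩ := Scheme.nonempty_of_isLimit B.D B.c B.hc
    have e : c.π.app i₀ (pullback.snd p (c.π.app i₀) z) = x := by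
      rw [← Scheme.Hom.comp_apply, ← pullback.condition, Scheme.Hom.comp_apply, Scheme.fromSpecResidueField_apply]
    rw [← e]
    exact h _)
  obtain ⟨j, g, hg⟩ : ∃ (j : I) (g : j ⟶ i₀), ∀ φ ∈ J, ∃ a : j ⟶ φ.left, a ≫ φ.hom = g := by
    obtain ⟨ψ, hψ⟩ := IsCofiltered.inf_objs_exists (C := Over i₀) J
    exact ⟨ψ.left, ψ.hom, fun φ hφ => ⟨(hψ hφ).some.left, Over.w _⟩⟩
  refine ⟨j, g, fun t => hJ (Set.mem_iInter₂.mpr fun φ hφ => ?_)⟩
  obtain ⟨a, ha⟩ := hg φ hφ
  exact ⟨D.map a t, by rw [← Scheme.Hom.comp_apply, ← D.map_comp, ha]⟩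

variable (A : Type u) [CommRing A]

/-- The algebra over the integers in the universe of the ring. -/
@[reducible] def zAlgebra : Algebra (ULift.{u} ℤ) A :=
  ((Int.castRingHom A).comp ULift.ringEquiv.toRingHom).toAlgebra

attribute [local instance] zAlgebra

/-- A ring as a limit of rings of finite type over the integers. -/
def zSys : RichLib.LimBC.Sys (FGSub (ULift.{u} ℤ) A)ᵒᵖ (Spec (CommRingCat.of (ULift.{u} ℤ))) :=
  fgSys (ULift.{u} ℤ) A (Iso.refl _)

/-- The limit is the spectrum. -/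
def zSysIso : (zSys A).c.pt ≅ Spec (CommRingCat.of A) := Iso.refl _

theorem zSys_obj (B : (FGSub (ULift.{u} ℤ) A)ᵒᵖ) : IsNoetherian ((zSys A).D.obj B) := by
  haveI : IsNoetherianRing (ULift.{u} ℤ) := isNoetherianRing_of_ringEquiv ℤ ULift.ringEquiv.symm
  haveI : IsNoetherian (Spec (CommRingCat.of (ULift.{u} ℤ))) := inferInstance
  haveI : LocallyOfFiniteType ((zSys A).t B) := locallyOfFiniteType_fgSys_t _ _ _ B
  haveI := (zSys A).affine B
  exact isNoetherian_of_ft ((zSys A).t B)

variable {A}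

/-- Noetherian models of a morphism over an affine base. -/
theorem exists_noetherian_model {X Y S : Scheme.{u}} [IsAffine S] (f : X ⟶ Y) (g : Y ⟶ S)
    [LocallyOfFinitePresentation g] [QuasiCompact g] [QuasiSeparated g]
    [LocallyOfFinitePresentation (f ≫ g)] [QuasiCompact (f ≫ g)] [QuasiSeparated (f ≫ g)] :
    ∃ (X₀ Y₀ S₀ : Scheme.{u}) (f₀ : X₀ ⟶ Y₀) (g₀ : Y₀ ⟶ S₀) (q : S ⟶ S₀) (pX : X ⟶ X₀) (pY : Y ⟶ Y₀),
      IsNoetherian S₀ ∧ LocallyOfFiniteType g₀ ∧ QuasiCompact g₀ ∧ LocallyOfFiniteType (f₀ ≫ g₀) ∧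
        QuasiCompact (f₀ ≫ g₀) ∧ IsPullback pY g g₀ q ∧ IsPullback pX f f₀ pY := by
  let A := zSys (Γ(S, ⊤) : Type u)
  haveI : ∀ i j (a : i ⟶ j), IsAffineHom (A.D.map a) := fun _ _ a => A.affine_map a
  haveI : ∀ i, IsNoetherian (A.D.obj i) := fun i => zSys_obj _ i
  let e : S ≅ A.c.pt := S.isoSpec ≪≫ (zSysIso _).symm
  haveI : QuasiCompact (g ≫ e.hom) := inferInstance
  haveI : QuasiSeparated (g ≫ e.hom) := inferInstance
  obtain ⟨i, ⟨N⟩⟩ := DescFP.exists_model A.hc (g ≫ e.hom)
  haveI := N.compactSpace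
  haveI := N.quasiSeparatedSpace
  let B := pb (ofStage A.D A.c A.hc i) N.p
  haveI : ∀ k l (b : k ⟶ l), IsAffineHom (B.D.map b) := fun _ _ b => B.affine_map b
  haveI := B.compactSpace_obj
  haveI := B.quasiSeparatedSpace_obj
  let eY := N.sq.isoPullback
  haveI : LocallyOfFinitePresentation f := Groth.Agent.S12442.result f g
  haveI : QuasiCompact f := QuasiCompact.of_comp f g
  haveI : QuasiSeparated f := QuasiSeparated.of_comp f g
  obtain ⟨φ, ⟨M⟩⟩ := DescFP.exists_model B.hc (show X ⟶ B.c.pt from f ≫ eY.hom)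
  let g₀ : B.D.obj φ ⟶ A.D.obj φ.left := pullback.snd N.p (A.D.map φ.hom)
  haveI := N.lfp
  haveI := N.qc
  haveI : LocallyOfFiniteType g₀ := MorphismProperty.pullback_snd _ _ inferInstance
  haveI : QuasiCompact g₀ := MorphismProperty.pullback_snd _ _ inferInstance
  haveI := M.lfp
  haveI := M.qc
  refine ⟨M.Z, B.D.obj φ, A.D.obj φ.left, M.p, g₀, e.hom ≫ A.c.π.app φ.left, M.g, eY.hom ≫ B.c.π.app φ,
    inferInstance, inferInstance, inferInstance, MorphismProperty.comp_mem _ _ _ inferInstance ‹LocallyOfFiniteType g₀›,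
    inferInstance, ?_, ?_⟩
  · refine (isPullback_cone (ofStage A.D A.c A.hc i) N.p φ).of_iso eY.symm (Iso.refl _) e.symm (Iso.refl _)
      ?_ ?_ ?_ ?_
    · exact (Category.comp_id _).trans (Iso.inv_hom_id_assoc _ _).symm
    · have h1 : eY.hom ≫ pullback.snd N.p (A.c.π.app i) = g ≫ e.hom := N.sq.isoPullback_hom_snd
      rw [Iso.symm_hom, Iso.symm_hom, Iso.eq_inv_comp, ← Category.assoc, Iso.comp_inv_eq]
      exact h1
    · simp [g₀]; rfl
    · exact (Category.comp_id _).trans (Iso.inv_hom_id_assoc _ _).symm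
  · exact M.sq.of_iso (Iso.refl _) (Iso.refl _) eY.symm (Iso.refl _) (by simp) (by simp) (by simp)
      ((Category.comp_id _).trans (Iso.inv_hom_id_assoc _ _).symm)

/-- Field stability gives compatibility with base change. -/
theorem locusMor_preimage {P : ∀ ⦃X Y T : Scheme.{u}⦄, (X ⟶ Y) → (Y ⟶ T) → Prop} (hP : ConsProp.IsFieldStableMor P)
    {X X' Y Y' S S' : Scheme.{u}} {f : X ⟶ Y} {g : Y ⟶ S} {f' : X' ⟶ Y'} {g' : Y' ⟶ S'} {eX : X' ⟶ X}
    {eY : Y' ⟶ Y} {h : S' ⟶ S} [LocallyOfFiniteType g] [QuasiCompact g]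
    [LocallyOfFiniteType (f ≫ g)] [QuasiCompact (f ≫ g)] (hY : IsPullback eY g' g h) (hX : IsPullback eX f' f eY) :
    ConsProp.locusMor P f' g' = h ⁻¹' ConsProp.locusMor P f g := by
  ext s'
  show P (MoreMor.fiberMap f' g' s') (g'.fiberToSpecResidueField s') ↔
    P (MoreMor.fiberMap f g (h s')) (g.fiberToSpecResidueField (h s'))
  have sY := isPullback_fiberToSpecResidueField_of_isPullback hY s'
  let a : g'.fiber s' ⟶ g.fiber (h s') := pullback.map _ _ _ _ eY (Spec.map (h.residueFieldMap s')) h hY.w.symm (by simp)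
  have ha : a ≫ g.fiberι (h s') = g'.fiberι s' ≫ eY := pullback.lift_fst _ _ _
  have sf := isPullback_fiberMap f g (h s')
  have sf' := isPullback_fiberMap f' g' s'
  have big := sf'.paste_horiz hX
  rw [← ha] at big
  let b := sf.lift ((f' ≫ g').fiberι s' ≫ eX) (MoreMor.fiberMap f' g' s' ≫ a) (big.w.trans (Category.assoc _ _ _).symm)
  have sX : IsPullback b (MoreMor.fiberMap f' g' s') (MoreMor.fiberMap f g (h s')) a :=
    IsPullback.of_right (by rw [sf.lift_fst]; exact big) (sf.lift_snd _ _ _) sf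
  haveI : Subsingleton ↥(Spec (S.residueField (h s'))) := inferInstanceAs (Subsingleton (PrimeSpectrum _))
  haveI : Subsingleton ↥(Spec (S'.residueField s')) := inferInstanceAs (Subsingleton (PrimeSpectrum _))
  haveI : LocallyOfFiniteType (g.fiberToSpecResidueField (h s')) := MorphismProperty.pullback_snd _ _ inferInstance
  haveI : QuasiCompact (g.fiberToSpecResidueField (h s')) := MorphismProperty.pullback_snd _ _ inferInstance
  have e : MoreMor.fiberMap f g (h s') ≫ g.fiberToSpecResidueField (h s') = (f ≫ g).fiberToSpecResidueField (h s') :=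
    pullback.lift_snd _ _ _
  haveI : LocallyOfFiniteType (MoreMor.fiberMap f g (h s') ≫ g.fiberToSpecResidueField (h s')) := by
    rw [e]; exact MorphismProperty.pullback_snd _ _ inferInstance
  haveI : QuasiCompact (MoreMor.fiberMap f g (h s') ≫ g.fiberToSpecResidueField (h s')) := by
    rw [e]; exact MorphismProperty.pullback_snd _ _ inferInstance
  exact (hP _ _ _ _ b a _ sY sX).symm

theorem locusPair_preimage {P : ∀ ⦃X Y T : Scheme.{u}⦄, (X ⟶ T) → (Y ⟶ T) → Prop} (hP : ConsPropPair.IsFieldStablePair P)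
    {X X' Y Y' S S' : Scheme.{u}} {u : X ⟶ S} {v : Y ⟶ S} {u' : X' ⟶ S'} {v' : Y' ⟶ S'} {eX : X' ⟶ X}
    {eY : Y' ⟶ Y} {h : S' ⟶ S} [LocallyOfFiniteType u] [QuasiCompact u] [LocallyOfFiniteType v] [QuasiCompact v]
    (hX : IsPullback eX u' u h) (hY : IsPullback eY v' v h) :
    ConsPropPair.locusPair P u' v' = h ⁻¹' ConsPropPair.locusPair P u v := by
  ext s'
  show P (u'.fiberToSpecResidueField s') (v'.fiberToSpecResidueField s') ↔
    P (u.fiberToSpecResidueField (h s')) (v.fiberToSpecResidueField (h s'))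
  haveI : Subsingleton ↥(Spec (S.residueField (h s'))) := inferInstanceAs (Subsingleton (PrimeSpectrum _))
  haveI : Subsingleton ↥(Spec (S'.residueField s')) := inferInstanceAs (Subsingleton (PrimeSpectrum _))
  haveI : LocallyOfFiniteType (u.fiberToSpecResidueField (h s')) := MorphismProperty.pullback_snd _ _ ‹LocallyOfFiniteType u›
  haveI : QuasiCompact (u.fiberToSpecResidueField (h s')) := MorphismProperty.pullback_snd _ _ inferInstance
  haveI : LocallyOfFiniteType (v.fiberToSpecResidueField (h s')) := MorphismProperty.pullback_snd _ _ inferInstance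
  haveI : QuasiCompact (v.fiberToSpecResidueField (h s')) := MorphismProperty.pullback_snd _ _ inferInstance
  exact (hP (u.fiberToSpecResidueField (h s')) (v.fiberToSpecResidueField (h s')) _ _ _ _ _ (isPullback_fiberToSpecResidueField_of_isPullback hX s')
    (isPullback_fiberToSpecResidueField_of_isPullback hY s')).symm

section Mor

variable {P : ∀ ⦃X Y T : Scheme.{u}⦄, (X ⟶ Y) → (Y ⟶ T) → Prop}

theorem isFieldStableMor_not (hP : ConsProp.IsFieldStableMor P) :
    ConsProp.IsFieldStableMor (fun X Y T f g => ¬ P f g) :=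
  fun X X' Y Y' T T' f g f' g' eX eY h _ _ _ _ _ _ _ _ hY hX => not_congr (hP f g f' g' eX eY h hY hX)

variable {X Y S : Scheme.{u}}

theorem isIndConstructible_locusMor_noetherian (hP : ConsProp.IsIndConsMor P) [IsNoetherian S] (f : X ⟶ Y)
    (g : Y ⟶ S) [LocallyOfFiniteType g] [QuasiCompact g] [LocallyOfFiniteType (f ≫ g)] [QuasiCompact (f ≫ g)] :
    ProCons.IsIndConstructible (ConsProp.locusMor P f g) := by
  refine isIndConstructible_of_generic fun {Z} _ _ i _ hη => ?_
  have hY := IsPullback.of_hasPullback g i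
  have hX := IsPullback.of_hasPullback f (pullback.fst g i)
  haveI : LocallyOfFiniteType (pullback.snd f (pullback.fst g i) ≫ pullback.snd g i) :=
    MorphismProperty.of_isPullback (P := @LocallyOfFiniteType) (hX.paste_vert hY) ‹_›
  haveI : QuasiCompact (pullback.snd f (pullback.fst g i) ≫ pullback.snd g i) :=
    MorphismProperty.of_isPullback (P := @QuasiCompact) (hX.paste_vert hY) ‹_›
  have e := locusMor_preimage hP.1 hY hX
  rw [← e]
  exact hP.2 (pullback.snd f (pullback.fst g i)) (pullback.snd g i) (by rw [e]; exact hη)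

theorem isIndConstructible_locusMor (hP : ConsProp.IsIndConsMor P) (f : X ⟶ Y) (g : Y ⟶ S)
    [LocallyOfFinitePresentation g] [QuasiCompact g] [QuasiSeparated g]
    [LocallyOfFinitePresentation (f ≫ g)] [QuasiCompact (f ≫ g)] [QuasiSeparated (f ≫ g)] :
    ProCons.IsIndConstructible (ConsProp.locusMor P f g) := by
  refine ProConsLib.isIndConstructible_iff_affine.mpr fun U hU => ?_
  haveI : IsAffine U.toScheme := hU
  have hY := IsPullback.of_hasPullback g U.ι
  have hX := IsPullback.of_hasPullback f (pullback.fst g U.ι)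
  rw [← locusMor_preimage hP.1 hY hX]
  haveI : LocallyOfFinitePresentation (pullback.snd f (pullback.fst g U.ι) ≫ pullback.snd g U.ι) :=
    MorphismProperty.of_isPullback (P := @LocallyOfFinitePresentation) (hX.paste_vert hY) ‹_›
  haveI : QuasiCompact (pullback.snd f (pullback.fst g U.ι) ≫ pullback.snd g U.ι) :=
    MorphismProperty.of_isPullback (P := @QuasiCompact) (hX.paste_vert hY) ‹_›
  haveI : QuasiSeparated (pullback.snd f (pullback.fst g U.ι) ≫ pullback.snd g U.ι) :=
    MorphismProperty.of_isPullback (P := @QuasiSeparated) (hX.paste_vert hY) ‹_›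
  obtain ⟨X₀, Y₀, S₀, f₀, g₀, q, pX, pY, _, _, _, _, _, hY₀, hX₀⟩ :=
    exists_noetherian_model (pullback.snd f (pullback.fst g U.ι)) (pullback.snd g U.ι)
  rw [locusMor_preimage hP.1 hY₀ hX₀]
  exact ProConsLib.isIndConstructible_iff_isOpen_cons.mp
    (ProConsLib.isIndConstructible_preimage q (isIndConstructible_locusMor_noetherian hP f₀ g₀))

theorem isLocallyConstructible_locusMor (hP : ConsProp.IsConsMor P) (f : X ⟶ Y) (g : Y ⟶ S)
    [LocallyOfFinitePresentation g] [QuasiCompact g] [QuasiSeparated g]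
    [LocallyOfFinitePresentation (f ≫ g)] [QuasiCompact (f ≫ g)] [QuasiSeparated (f ≫ g)] :
    IsLocallyConstructible (ConsProp.locusMor P f g) := by
  have h1 : ConsProp.IsIndConsMor P :=
    ⟨hP.1, fun X Y S f g _ _ _ _ _ _ hη => (hP.2 f g).resolve_right fun h =>
      interior_subset (s := (ConsProp.locusMor P f g)ᶜ) (genericPoint_mem_interior h) hη⟩
  have h2 : ConsProp.IsIndConsMor (fun X Y T f g => ¬ P f g) :=
    ⟨isFieldStableMor_not hP.1, fun X Y S f g _ _ _ _ _ _ hη => (hP.2 f g).resolve_left fun h =>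
      hη (interior_subset (s := ConsProp.locusMor P f g) (genericPoint_mem_interior h))⟩
  exact ProConsLib.isLocallyConstructible_iff_ind_and_pro.mpr ⟨isIndConstructible_locusMor h1 f g,
    ProConsLib.isIndConstructible_compl_iff.mp (isIndConstructible_locusMor h2 f g)⟩

end Mor

section Pair

variable {P : ∀ ⦃X Y T : Scheme.{u}⦄, (X ⟶ T) → (Y ⟶ T) → Prop}

theorem isFieldStablePair_not (hP : ConsPropPair.IsFieldStablePair P) :
    ConsPropPair.IsFieldStablePair (fun X Y T u v => ¬ P u v) :=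
  fun X X' Y Y' T T' gX gY gX' gY' eX eY h _ _ _ _ _ _ _ _ hX hY => not_congr (hP gX gY gX' gY' eX eY h hX hY)

variable {X Y S : Scheme.{u}}

theorem isIndConstructible_locusPair_noetherian (hP : ConsPropPair.IsIndConsPair P) [IsNoetherian S] (u : X ⟶ S)
    (v : Y ⟶ S) [LocallyOfFiniteType u] [QuasiCompact u] [LocallyOfFiniteType v] [QuasiCompact v] :
    ProCons.IsIndConstructible (ConsPropPair.locusPair P u v) := by
  refine isIndConstructible_of_generic fun {Z} _ _ i _ hη => ?_
  have e := locusPair_preimage hP.1 (IsPullback.of_hasPullback u i) (IsPullback.of_hasPullback v i)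
  rw [← e]
  exact hP.2 (pullback.snd u i) (pullback.snd v i) (by rw [e]; exact hη)

theorem exists_noetherian_model_pair [IsAffine S] (u : X ⟶ S) (v : Y ⟶ S)
    [LocallyOfFinitePresentation u] [QuasiCompact u] [QuasiSeparated u]
    [LocallyOfFinitePresentation v] [QuasiCompact v] [QuasiSeparated v] :
    ∃ (X₀ Y₀ S₀ : Scheme.{u}) (u₀ : X₀ ⟶ S₀) (v₀ : Y₀ ⟶ S₀) (q : S ⟶ S₀) (pX : X ⟶ X₀) (pY : Y ⟶ Y₀),
      IsNoetherian S₀ ∧ LocallyOfFiniteType u₀ ∧ QuasiCompact u₀ ∧ LocallyOfFiniteType v₀ ∧ QuasiCompact v₀ ∧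
        IsPullback pX u u₀ q ∧ IsPullback pY v v₀ q := by
  let A := zSys (Γ(S, ⊤) : Type u)
  haveI : ∀ i j (a : i ⟶ j), IsAffineHom (A.D.map a) := fun _ _ a => A.affine_map a
  haveI : ∀ i, IsNoetherian (A.D.obj i) := fun i => zSys_obj _ i
  let e : S ≅ A.c.pt := S.isoSpec ≪≫ (zSysIso _).symm
  obtain ⟨i, ⟨M⟩⟩ := DescFP.exists_model A.hc (u ≫ e.hom)
  obtain ⟨k, ⟨N⟩⟩ := DescFP.exists_model A.hc (v ≫ e.hom)
  obtain ⟨j, a, b, -⟩ := IsCofilteredOrEmpty.cone_objs i k
  haveI := (M.push a).lfp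
  haveI := (N.push b).lfp
  exact ⟨_, _, _, (M.push a).p, (N.push b).p, e.hom ≫ A.c.π.app j, (M.push a).g, (N.push b).g, inferInstance,
    inferInstance, (M.push a).qc, inferInstance, (N.push b).qc,
    (M.push a).sq.of_iso (Iso.refl _) (Iso.refl _) e.symm (Iso.refl _) (by simp) (by simp) (by simp) (by simp),
    (N.push b).sq.of_iso (Iso.refl _) (Iso.refl _) e.symm (Iso.refl _) (by simp) (by simp) (by simp) (by simp)⟩

theorem isIndConstructible_locusPair (hP : ConsPropPair.IsIndConsPair P) (u : X ⟶ S) (v : Y ⟶ S)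
    [LocallyOfFinitePresentation u] [QuasiCompact u] [QuasiSeparated u]
    [LocallyOfFinitePresentation v] [QuasiCompact v] [QuasiSeparated v] :
    ProCons.IsIndConstructible (ConsPropPair.locusPair P u v) := by
  refine ProConsLib.isIndConstructible_iff_affine.mpr fun U hU => ?_
  haveI : IsAffine U.toScheme := hU
  rw [← locusPair_preimage hP.1 (IsPullback.of_hasPullback u U.ι) (IsPullback.of_hasPullback v U.ι)]
  obtain ⟨X₀, Y₀, S₀, u₀, v₀, q, pX, pY, _, _, _, _, _, hX₀, hY₀⟩ :=
    exists_noetherian_model_pair (pullback.snd u U.ι) (pullback.snd v U.ι)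
  rw [locusPair_preimage hP.1 hX₀ hY₀]
  exact ProConsLib.isIndConstructible_iff_isOpen_cons.mp
    (ProConsLib.isIndConstructible_preimage q (isIndConstructible_locusPair_noetherian hP u₀ v₀))

theorem isLocallyConstructible_locusPair (hP : ConsPropPair.IsConsPair P) (u : X ⟶ S) (v : Y ⟶ S)
    [LocallyOfFinitePresentation u] [QuasiCompact u] [QuasiSeparated u]
    [LocallyOfFinitePresentation v] [QuasiCompact v] [QuasiSeparated v] :
    IsLocallyConstructible (ConsPropPair.locusPair P u v) := by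
  have h1 : ConsPropPair.IsIndConsPair P :=
    ⟨hP.1, fun X Y S u v _ _ _ _ _ _ hη => (hP.2 u v).resolve_right fun h =>
      interior_subset (s := (ConsPropPair.locusPair P u v)ᶜ) (genericPoint_mem_interior h) hη⟩
  have h2 : ConsPropPair.IsIndConsPair (fun X Y T u v => ¬ P u v) :=
    ⟨isFieldStablePair_not hP.1, fun X Y S u v _ _ _ _ _ _ hη => (hP.2 u v).resolve_left fun h =>
      hη (interior_subset (s := ConsPropPair.locusPair P u v) (genericPoint_mem_interior h))⟩
  exact ProConsLib.isLocallyConstructible_iff_ind_and_pro.mpr ⟨isIndConstructible_locusPair h1 u v,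
    ProConsLib.isIndConstructible_compl_iff.mp (isIndConstructible_locusPair h2 u v)⟩

end Pair

end ConsLib
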