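import Groth.Agent.RichLib.LimitBaseChange

/-! A field over a ring as the limit of its finitely generated subalgebras. -/

set_option autoImplicit false

universe u

open CategoryTheory CategoryTheory.Limits AlgebraicGeometry Opposite

noncomputable section

namespace ConsLib

variable (A K : Type u) [CommRing A] [CommRing K] [Algebra A K]

/-- Finitely generated subalgebras. -/
abbrev FGSub : Type u := {B : Subalgebra A K // B.FG}

instance : Nonempty (FGSub A K) := ⟨⟨⊥, Subalgebra.fg_bot⟩⟩

instance : IsDirected (FGSub A K) (· ≤ ·) :=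
  ⟨fun B C => ⟨⟨B.1 ⊔ C.1, B.2.sup C.2⟩, le_sup_left (a := B.1), le_sup_right (a := B.1)⟩⟩

/-- The diagram of finitely generated subalgebras. -/
def fgDiag : FGSub A K ⥤ CommRingCat.{u} where
  obj B := CommRingCat.of B.1
  map {B C} h := CommRingCat.ofHom (Subalgebra.inclusion (leOfHom h)).toRingHom
  map_id B := rfl
  map_comp f g := rfl

/-- The cocone with vertex the whole algebra. -/
def fgCocone : Cocone (fgDiag A K) where
  pt := CommRingCat.of K
  ι :=
    { app := fun B => CommRingCat.ofHom B.1.val.toRingHom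
      naturality := fun B C h => rfl }

theorem fgCocone_isColimit : Nonempty (IsColimit (fgCocone A K)) := by
  haveI : ReflectsColimit (fgDiag A K) (forget CommRingCat.{u}) := reflectsColimit_of_reflectsIsomorphisms _ _
  refine ⟨isColimitOfReflects (forget CommRingCat) (Types.FilteredColimit.isColimitOf _ _ (fun (x : K) => ?_) ?_)⟩
  · refine ⟨⟨Algebra.adjoin A ({x} : Set K), ⟨{x}, by simp⟩⟩, ⟨x, Algebra.subset_adjoin rfl⟩, rfl⟩
  · intro B C b c h
    obtain ⟨E, hB, hC⟩ := exists_ge_ge B C
    exact ⟨E, homOfLE hB, homOfLE hC, Subtype.ext h⟩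

/-- The system of the spectra of the finitely generated subalgebras. -/
def fgSys {U : Scheme.{u}} (e : U ≅ Spec (CommRingCat.of A)) : RichLib.LimBC.Sys (FGSub A K)ᵒᵖ U where
  D := (fgDiag A K).op ⋙ Scheme.Spec
  t B := Spec.map (CommRingCat.ofHom (algebraMap A B.unop.1)) ≫ e.inv
  w {B C} h := by
    show Spec.map ((fgDiag A K).map h.unop) ≫ _ ≫ e.inv = _
    rw [← Category.assoc, ← Spec.map_comp]
    congr 2
  c := Scheme.Spec.mapCone (fgCocone A K).op
  hc := isLimitOfPreserves Scheme.Spec (fgCocone_isColimit A K).some.op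
  affine B :=
    haveI : IsAffine (((fgDiag A K).op ⋙ Scheme.Spec).obj B) :=
      inferInstanceAs (IsAffine (Spec (CommRingCat.of B.unop.1)))
    MorphismProperty.comp_mem _ _ _ (isAffineHom_of_isAffine _) inferInstance
  s := Spec.map (CommRingCat.ofHom (algebraMap A K)) ≫ e.inv
  hs B := by
    show Spec.map (CommRingCat.ofHom B.unop.1.val.toRingHom) ≫
      Spec.map (CommRingCat.ofHom (algebraMap A B.unop.1)) ≫ e.inv = _
    exact (Category.assoc _ _ _).symm.trans (congrArg (· ≫ e.inv) (Spec.map_comp _ _).symm)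

theorem locallyOfFiniteType_fgSys_t {U : Scheme.{u}} (e : U ≅ Spec (CommRingCat.of A)) (B : (FGSub A K)ᵒᵖ) :
    LocallyOfFiniteType ((fgSys A K e).t B) := by
  haveI : Algebra.FiniteType A B.unop.1 := ⟨(Subalgebra.fg_top _).mpr B.unop.2⟩
  haveI : LocallyOfFiniteType (Spec.map (CommRingCat.ofHom (algebraMap A B.unop.1))) :=
    (HasRingHomProperty.Spec_iff (P := @LocallyOfFiniteType)).mpr (RingHom.finiteType_algebraMap.mpr inferInstance)
  exact MorphismProperty.comp_mem _ _ _ this inferInstance

section Hom

variable {R L : CommRingCat.{u}} (φ : R ⟶ L) {U : Scheme.{u}} (e : U ≅ Spec R)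

/-- The index of the system attached to a ring map. -/
abbrev HomIdx : Type u := letI := φ.hom.toAlgebra; (FGSub R L)ᵒᵖ

/-- The system of finitely generated models attached to a ring map. -/
def homSys : RichLib.LimBC.Sys (HomIdx φ) U :=
  letI := φ.hom.toAlgebra; fgSys R L e

theorem homSys_lft (B : HomIdx φ) : LocallyOfFiniteType ((homSys φ e).t B) :=
  letI := φ.hom.toAlgebra; locallyOfFiniteType_fgSys_t R L e B

/-- The vertex is the spectrum of the target. -/
def homSysIso : (homSys φ e).c.pt ≅ Spec L := Iso.refl _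

theorem homSys_s : (homSysIso φ e).inv ≫ (homSys φ e).s = Spec.map φ ≫ e.inv := Category.id_comp _

end Hom

end ConsLib
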