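import Groth.Agent.ConsLib.General
import Groth.Agent.ModDescLib.Main

/-! Loci of constructible properties of a scheme with a module. -/

set_option autoImplicit false

universe u

open CategoryTheory CategoryTheory.Limits AlgebraicGeometry Topology RichLib.LimBC Groth.Agent

noncomputable section

namespace ConsLib

theorem isFT_pullback {X Y : Scheme.{u}} (g : X ⟶ Y) (M : Y.Modules) [Coh.IsQCoh M] (h : CohB1.IsFT M) :
    CohB1.IsFT ((Scheme.Modules.pullback g).obj M) := by
  haveI := KFlatLib.isQCoh_pullback g M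
  refine QCohLib.isFT_of_finite fun x => ?_
  obtain ⟨U, hU, hxU, -⟩ := exists_isAffineOpen_mem_and_subset (X := Y) (x := g x) (U := ⊤) trivial
  obtain ⟨U', hU', hxU', hle⟩ := exists_isAffineOpen_mem_and_subset (X := X) (x := x) (U := g ⁻¹ᵁ U) hxU
  refine ⟨U', hU', hxU', ?_⟩
  haveI : Module.Finite Γ(Y, U) Γ(M, U) := QCohLib.finite_of_isFT h hU
  letI : Algebra Γ(Y, U) Γ(X, U') := (g.appLE U U' hle).hom.toAlgebra
  letI : Module Γ(Y, U) Γ(KFlatLib.pb g M, U') := Module.compHom _ (g.appLE U U' hle).hom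
  haveI : IsScalarTower Γ(Y, U) Γ(X, U') Γ(KFlatLib.pb g M, U') :=
    IsScalarTower.of_algebraMap_smul fun _ _ => rfl
  let ψ : Γ(M, U) →ₗ[Γ(Y, U)] Γ(KFlatLib.pb g M, U') :=
    { toFun := KFlatLib.puSecLE g M hle
      map_add' := fun a b => map_add (KFlatLib.puSecLE g M hle) a b
      map_smul' := fun r x => KFlatLib.puSecLE_smul g M hle r x }
  have hb := KFlatLib.isBaseChange_puSec g M hU hU' hle (fun _ => rfl) ψ (fun _ => rfl)
  exact Module.Finite.equiv (hb.equiv)

theorem isCoh_pullback {X Y : Scheme.{u}} (g : X ⟶ Y) {M : Y.Modules} (h : Coh.IsCoh M) :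
    Coh.IsCoh ((Scheme.Modules.pullback g).obj M) :=
  haveI : Coh.IsQCoh M := h.1
  ⟨KFlatLib.isQCoh_pullback g M, isFT_pullback g M h.2⟩

theorem isCoh_of_isFP {X : Scheme.{u}} {M : X.Modules} [Coh.IsQCoh M] (h : CohB1.IsFP M) : Coh.IsCoh M :=
  ⟨‹_›, haveI : SheafOfModules.IsFinitePresentation (R := X.ringCatSheaf) M := h
    (inferInstance : SheafOfModules.IsFiniteType (R := X.ringCatSheaf) M)⟩

theorem isCoh_of_iso {X : Scheme.{u}} {M N : X.Modules} (e : M ≅ N) (h : Coh.IsCoh M) : Coh.IsCoh N :=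
  haveI : Coh.IsQCoh M := h.1
  ⟨QCohLib.isQCoh_of_iso e, QCohLib.isFT_of_epi e.hom h.2⟩

variable {P : ∀ ⦃Y T : Scheme.{u}⦄, (Y ⟶ T) → Y.Modules → Prop}

theorem locusMod_preimage (hP : ConsProp.IsFieldStableMod P) {X X' S S' : Scheme.{u}} {u : X ⟶ S} {u' : X' ⟶ S'}
    {eX : X' ⟶ X} {h : S' ⟶ S} [LocallyOfFiniteType u] [QuasiCompact u] (sq : IsPullback eX u' u h)
    {F : X.Modules} (hF : Coh.IsCoh F) {F' : X'.Modules} (e : F' ≅ (Scheme.Modules.pullback eX).obj F) :
    ConsProp.locusMod P u' F' = h ⁻¹' ConsProp.locusMod P u F := by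
  ext s'
  show P (u'.fiberToSpecResidueField s') _ ↔ P (u.fiberToSpecResidueField (h s')) _
  haveI : Subsingleton ↥(Spec (S.residueField (h s'))) := inferInstanceAs (Subsingleton (PrimeSpectrum _))
  haveI : Subsingleton ↥(Spec (S'.residueField s')) := inferInstanceAs (Subsingleton (PrimeSpectrum _))
  haveI : LocallyOfFiniteType (u.fiberToSpecResidueField (h s')) := MorphismProperty.pullback_snd _ _ inferInstance
  haveI : QuasiCompact (u.fiberToSpecResidueField (h s')) := MorphismProperty.pullback_snd _ _ inferInstance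
  let a : u'.fiber s' ⟶ u.fiber (h s') := pullback.map _ _ _ _ eX (Spec.map (h.residueFieldMap s')) h sq.w.symm (by simp)
  have ha : u'.fiberι s' ≫ eX = a ≫ u.fiberι (h s') := (pullback.lift_fst _ _ _).symm
  refine (hP (u.fiberToSpecResidueField (h s')) _ a _ (isPullback_fiberToSpecResidueField_of_isPullback sq s')
    _ _ (isCoh_pullback _ hF) ?_).symm
  exact (Scheme.Modules.pullback (u'.fiberι s')).mapIso e ≪≫
    (Scheme.Modules.pullbackComp (u'.fiberι s') eX).app F ≪≫ (Scheme.Modules.pullbackCongr ha).app F ≪≫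
    ((Scheme.Modules.pullbackComp a (u.fiberι (h s'))).app F).symm

theorem isFieldStableMod_not (hP : ConsProp.IsFieldStableMod P) :
    ConsProp.IsFieldStableMod (fun Y T g F => ¬ P g F) :=
  fun Y Y' T T' g g' e h _ _ _ _ _ _ hc F F' hF i => not_congr (hP g g' e h hc F F' hF i)

variable {X S : Scheme.{u}}

theorem isIndConstructible_locusMod_noetherian (hP : ConsProp.IsIndConsMod P) [IsNoetherian S] (u : X ⟶ S)
    [LocallyOfFiniteType u] [QuasiCompact u] (F : X.Modules) (hF : Coh.IsCoh F) :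
    ProCons.IsIndConstructible (ConsProp.locusMod P u F) := by
  refine isIndConstructible_of_generic fun {Z} _ _ i _ hη => ?_
  have e := locusMod_preimage hP.1 (IsPullback.of_hasPullback u i) hF (Iso.refl _)
  rw [← e]
  exact hP.2 (pullback.snd u i) _ (isCoh_pullback _ hF) (by rw [e]; exact hη)

theorem exists_presentation_restrict {Z Y : Scheme.{u}} (j : Z ⟶ Y) [IsOpenImmersion j] {M : Y.Modules}
    (hM : CohB1.IsFP M) (z : Z) :
    ∃ (O : Z.Opens) (P : ((M.restrict j).restrict O.ι).Presentation), z ∈ O ∧ P.IsFinite := by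
  obtain ⟨O, P, hzO, hP⟩ := FlatLib.exists_presentation_nhd hM (j z)
  let k : (j ⁻¹ᵁ O).toScheme ⟶ O.toScheme := IsOpenImmersion.lift O.ι ((j ⁻¹ᵁ O).ι ≫ j) (by
    rw [Scheme.Opens.range_ι]; rintro _ ⟨y, rfl⟩; exact y.2)
  have hk : k ≫ O.ι = (j ⁻¹ᵁ O).ι ≫ j := IsOpenImmersion.lift_fac _ _ _
  haveI : IsOpenImmersion (k ≫ O.ι) := by rw [hk]; infer_instance
  haveI : IsOpenImmersion k := IsOpenImmersion.of_comp k O.ι
  let P₁ := Scheme.Modules.presentationRestrict k P
  haveI := FlatLib.presentation_restrict_finite k P hP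
  haveI : P₁.IsFinite := ‹_›
  have hf := ‹P₁.IsFinite›
  have := hf.isFiniteType_generators
  have := hf.isFiniteType_relations
  refine ⟨j ⁻¹ᵁ O, (QCohLib.presentationOfComp M k O.ι _ hk P₁).ofIsIso
    ((Scheme.Modules.restrictFunctorComp (j ⁻¹ᵁ O).ι j).app M).hom, hzO, ?_⟩
  exact { isFiniteType_generators := ⟨(inferInstance : Finite P₁.generators.I)⟩
          isFiniteType_relations := ⟨(inferInstance : Finite P₁.relations.I)⟩ }

/-- Noetherian models of a scheme with a module over an affine base. -/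
theorem exists_noetherian_model_mod [IsAffine S] (u : X ⟶ S) [LocallyOfFinitePresentation u] [QuasiCompact u]
    [QuasiSeparated u] (F : X.Modules) [Coh.IsQCoh F]
    (hF : ∀ x : X, ∃ (O : X.Opens) (P : (F.restrict O.ι).Presentation), x ∈ O ∧ P.IsFinite) :
    ∃ (X₀ S₀ : Scheme.{u}) (u₀ : X₀ ⟶ S₀) (q : S ⟶ S₀) (pX : X ⟶ X₀) (G : X₀.Modules),
      IsNoetherian S₀ ∧ LocallyOfFiniteType u₀ ∧ QuasiCompact u₀ ∧ IsPullback pX u u₀ q ∧ Coh.IsCoh G ∧
        Nonempty (F ≅ (Scheme.Modules.pullback pX).obj G) := by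
  let A := zSys (Γ(S, ⊤) : Type u)
  haveI : ∀ i j (a : i ⟶ j), IsAffineHom (A.D.map a) := fun _ _ a => A.affine_map a
  haveI : ∀ i, IsNoetherian (A.D.obj i) := fun i => zSys_obj _ i
  let e : S ≅ A.c.pt := S.isoSpec ≪≫ (zSysIso _).symm
  obtain ⟨i, ⟨N⟩⟩ := DescFP.exists_model A.hc (u ≫ e.hom)
  haveI := N.lfp
  haveI := N.qc
  haveI := N.compactSpace
  haveI := N.quasiSeparatedSpace
  let B := pb (ofStage A.D A.c A.hc i) N.p
  haveI : ∀ k l (b : k ⟶ l), IsAffineHom (B.D.map b) := fun _ _ b => B.affine_map b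
  haveI hlft : LocallyOfFiniteType N.p := inferInstance
  haveI : ∀ φ : Over i, IsNoetherian (B.D.obj φ) := fun φ =>
    @ConsLib.isNoetherian_of_ft _ _ (pullback.snd N.p (A.D.map φ.hom)) (zSys_obj _ φ.left)
      (MorphismProperty.pullback_snd _ _ hlft) (MorphismProperty.pullback_snd _ _ N.qc)
  let eY := N.sq.isoPullback
  let c' : Cone B.D := B.c.extend eY.hom
  have hc' : IsLimit c' := B.hc.ofIsoLimit (Cone.ext eY.symm (fun φ => by
    simp [c', Cone.extend]))
  obtain ⟨φ, G, hG, ⟨eG⟩⟩ := ModDescLib.exists_coh_pullback (c := c') hc' F hF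
  let g₀ : B.D.obj φ ⟶ A.D.obj φ.left := pullback.snd N.p (A.D.map φ.hom)
  have hg₀ : LocallyOfFiniteType g₀ ∧ QuasiCompact g₀ :=
    ⟨MorphismProperty.pullback_snd _ _ hlft, MorphismProperty.pullback_snd _ _ N.qc⟩
  refine ⟨B.D.obj φ, A.D.obj φ.left, g₀, e.hom ≫ A.c.π.app φ.left, eY.hom ≫ B.c.π.app φ, G, inferInstance,
    hg₀.1, hg₀.2, ?_, hG, ⟨eG.symm⟩⟩
  refine (isPullback_cone (ofStage A.D A.c A.hc i) N.p φ).of_iso eY.symm (Iso.refl _) e.symm (Iso.refl _)
      ?_ ?_ ?_ ?_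
  · exact (Category.comp_id _).trans (Iso.inv_hom_id_assoc _ _).symm
  · have h1 : eY.hom ≫ pullback.snd N.p (A.c.π.app i) = u ≫ e.hom := N.sq.isoPullback_hom_snd
    rw [Iso.symm_hom, Iso.symm_hom, Iso.eq_inv_comp, ← Category.assoc, Iso.comp_inv_eq]
    exact h1
  · simp [g₀]; rfl
  · exact (Category.comp_id _).trans (Iso.inv_hom_id_assoc _ _).symm

theorem isIndConstructible_locusMod (hP : ConsProp.IsIndConsMod P) (u : X ⟶ S) [LocallyOfFinitePresentation u]
    [QuasiCompact u] [QuasiSeparated u] (F : X.Modules) [Coh.IsQCoh F] (hF : CohB1.IsFP F) :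
    ProCons.IsIndConstructible (ConsProp.locusMod P u F) := by
  refine ProConsLib.isIndConstructible_iff_affine.mpr fun U hU => ?_
  haveI : IsAffine U.toScheme := hU
  rw [← locusMod_preimage hP.1 (IsPullback.of_hasPullback u U.ι) (isCoh_of_isFP hF)
    ((Scheme.Modules.restrictFunctorIsoPullback (pullback.fst u U.ι)).app F)]
  haveI : Coh.IsQCoh (F.restrict (pullback.fst u U.ι)) :=
    haveI := KFlatLib.isQCoh_pullback (pullback.fst u U.ι) F
    QCohLib.isQCoh_of_iso ((Scheme.Modules.restrictFunctorIsoPullback (pullback.fst u U.ι)).app F).symm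
  obtain ⟨X₀, S₀, u₀, q, pX, G, _, _, _, sq, hG, ⟨eG⟩⟩ := exists_noetherian_model_mod (pullback.snd u U.ι)
    (F.restrict (pullback.fst u U.ι)) (exists_presentation_restrict (pullback.fst u U.ι) hF)
  erw [locusMod_preimage hP.1 sq hG eG]
  exact ProConsLib.isIndConstructible_iff_isOpen_cons.mp
    (ProConsLib.isIndConstructible_preimage q (isIndConstructible_locusMod_noetherian hP u₀ G hG))

theorem isLocallyConstructible_locusMod (hP : ConsProp.IsConsMod P) (u : X ⟶ S) [LocallyOfFinitePresentation u]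
    [QuasiCompact u] [QuasiSeparated u] (F : X.Modules) [Coh.IsQCoh F] (hF : CohB1.IsFP F) :
    IsLocallyConstructible (ConsProp.locusMod P u F) := by
  have h1 : ConsProp.IsIndConsMod P :=
    ⟨hP.1, fun X S u _ _ _ _ F hF hη => (hP.2 u F hF).resolve_right fun h =>
      interior_subset (s := (ConsProp.locusMod P u F)ᶜ) (genericPoint_mem_interior h) hη⟩
  have h2 : ConsProp.IsIndConsMod (fun Y T g F => ¬ P g F) :=
    ⟨isFieldStableMod_not hP.1, fun X S u _ _ _ _ F hF hη => (hP.2 u F hF).resolve_left fun h =>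
      hη (interior_subset (s := ConsProp.locusMod P u F) (genericPoint_mem_interior h))⟩
  exact ProConsLib.isLocallyConstructible_iff_ind_and_pro.mpr ⟨isIndConstructible_locusMod h1 u F hF,
    ProConsLib.isIndConstructible_compl_iff.mp (isIndConstructible_locusMod h2 u F hF)⟩

/-- The generic point is interior to the locus or to its complement. -/
theorem genericPoint_mem_interior_locusMod [IrreducibleSpace S] (hP : ConsProp.IsConsMod P) (u : X ⟶ S)
    [LocallyOfFinitePresentation u] [QuasiCompact u] [QuasiSeparated u] (F : X.Modules) [Coh.IsQCoh F]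
    (hF : CohB1.IsFP F) :
    genericPoint S ∈ interior (ConsProp.locusMod P u F) ∨
      genericPoint S ∈ interior (ConsProp.locusMod P u F)ᶜ := by
  have h := isLocallyConstructible_locusMod hP u F hF
  by_cases hη : genericPoint S ∈ ConsProp.locusMod P u F
  · exact .inl (mem_interior_of_indConstructible (ProConsLib.isLocallyConstructible_iff_ind_and_pro.mp h).1 hη)
  · exact .inr (mem_interior_of_indConstructible
      (ProConsLib.isIndConstructible_of_isLocallyConstructible (ProConsLib.isLocallyConstructible_compl h)) hη)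

theorem forall_mem_locusMod_iff (hP : ConsProp.IsIndConsMod P) {I : Type u} [SmallCategory I] [IsCofiltered I]
    (D : I ⥤ Scheme.{u}) (c : Cone D) (hc : IsLimit c) [∀ (i j : I) (a : i ⟶ j), IsAffineHom (D.map a)] (i₀ : I)
    [CompactSpace (D.obj i₀)] {X₀ : Scheme.{u}} (u₀ : X₀ ⟶ D.obj i₀) [LocallyOfFinitePresentation u₀]
    [QuasiCompact u₀] [QuasiSeparated u₀] (F₀ : X₀.Modules) [Coh.IsQCoh F₀] (hF₀ : CohB1.IsFP F₀)
    {X : Scheme.{u}} (u : X ⟶ c.pt) (q : X ⟶ X₀) (hX : IsPullback q u u₀ (c.π.app i₀)) :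
    (∀ s : ↥c.pt, s ∈ ConsProp.locusMod P u ((Scheme.Modules.pullback q).obj F₀)) ↔
      ∃ (j : I) (φ : j ⟶ i₀) (Xj : Scheme.{u}) (uj : Xj ⟶ D.obj j) (p : Xj ⟶ X₀),
        IsPullback p uj u₀ (D.map φ) ∧
          ∀ t : ↥(D.obj j), t ∈ ConsProp.locusMod P uj ((Scheme.Modules.pullback p).obj F₀) := by
  have e := locusMod_preimage hP.1 hX (isCoh_of_isFP hF₀) (Iso.refl _)
  constructor
  · intro h
    obtain ⟨j, φ, hφ⟩ := exists_stage_subset D c hc i₀ (isIndConstructible_locusMod hP u₀ F₀ hF₀)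
      (fun s => by simpa [e] using h s)
    refine ⟨j, φ, _, pullback.snd u₀ (D.map φ), pullback.fst _ _, IsPullback.of_hasPullback _ _, fun t => ?_⟩
    rw [locusMod_preimage hP.1 (IsPullback.of_hasPullback u₀ (D.map φ)) (isCoh_of_isFP hF₀) (Iso.refl _)]
    exact hφ t
  · rintro ⟨j, φ, Xj, uj, p, hXj, h⟩ s
    rw [e]
    have h' := h (c.π.app j s)
    rw [locusMod_preimage hP.1 hXj (isCoh_of_isFP hF₀) (Iso.refl _), Set.mem_preimage, ← Scheme.Hom.comp_apply,
      c.w] at h'
    exact h'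

end ConsLib
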