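import Groth.Agent.ConsLib.PairApps
import Groth.Agent.ChowLib.ChowAll

/-! Properness descends along affine limits. -/

set_option autoImplicit false

universe u

open CategoryTheory CategoryTheory.Limits AlgebraicGeometry Topology RichLib.LimBC

noncomputable section

namespace ConsLib

/-- Base change of a composite. -/
theorem snd_comp {X Y Z T : Scheme.{u}} (a : X ⟶ Y) (b : Y ⟶ Z) (t : T ⟶ Z) :
    pullback.snd a (pullback.fst b t) ≫ pullback.snd b t =
      (pullbackRightPullbackFstIso b t a).hom ≫ pullback.snd (a ≫ b) t :=
  (pullbackRightPullbackFstIso_hom_snd _ _ _).symm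

theorem isProper_snd_congr {X Z T : Scheme.{u}} {a b : X ⟶ Z} (e : a = b) (t : T ⟶ Z)
    (h : IsProper (pullback.snd a t)) : IsProper (pullback.snd b t) := by
  subst e; exact h

theorem exists_at_isProper_of_isSeparated {J : Type u} [SmallCategory J] [IsCofiltered J] {S W : Scheme.{u}}
    [CompactSpace S] [QuasiSeparatedSpace S] (A : Sys J S) (g : W ⟶ S) [IsSeparated g] [LocallyOfFiniteType g]
    [QuasiCompact g] (h : AtLim A g @IsProper) : ∃ j, At A g @IsProper j := by
  haveI : CompactSpace W := QuasiCompact.compactSpace_of_compactSpace g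
  haveI : QuasiSeparatedSpace W := quasiSeparatedSpace_of_quasiSeparated g
  obtain ⟨n, X', π, j, hj, hjb, hπ, hπs, -⟩ := ChowLib.chow_all g
  let p := CohB1.ProjSpaceOver.toBase n S
  haveI : IsProper p := inferInstance
  haveI : CompactSpace (CohB1.ProjSpaceOver n S) := QuasiCompact.compactSpace_of_compactSpace p
  haveI : QuasiCompact (j ≫ p) := by rw [hjb]; infer_instance
  haveI : QuasiCompact j := QuasiCompact.of_comp j p
  have key : ∀ {T : Scheme.{u}} (t : T ⟶ S), IsProper (pullback.snd g t) →
      IsProper (pullback.snd j (pullback.fst p t) ≫ pullback.snd p t) := by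
    intro T t ht
    rw [snd_comp]
    have e : IsProper (pullback.snd (π ≫ g) t) := by
      have h1 : IsProper (pullback.snd π (pullback.fst g t) ≫ pullback.snd g t) := inferInstance
      rwa [snd_comp, MorphismProperty.cancel_left_of_respectsIso @IsProper] at h1
    rw [MorphismProperty.cancel_left_of_respectsIso @IsProper]
    exact isProper_snd_congr hjb.symm t e
  obtain ⟨i, hi⟩ := exists_at_isClosedImmersion (pb A p) j (by
    show IsClosedImmersion (pullback.snd j (pullback.fst p A.s))
    haveI := key A.s h
    haveI : IsProper (pullback.snd j (pullback.fst p A.s)) := IsProper.of_comp _ (pullback.snd p A.s)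
    exact IsClosedImmersion.of_isPreimmersion _ (Scheme.Hom.isClosedMap _).isClosed_range)
  refine ⟨i, ?_⟩
  have hc : IsProper (pullback.snd π (pullback.fst g (A.t i)) ≫ pullback.snd g (A.t i)) := by
    haveI : IsClosedImmersion (pullback.snd j (pullback.fst p (A.t i))) := hi
    have h1 : IsProper (pullback.snd j (pullback.fst p (A.t i)) ≫ pullback.snd p (A.t i)) := inferInstance
    rw [snd_comp, MorphismProperty.cancel_left_of_respectsIso @IsProper] at h1
    rw [snd_comp, MorphismProperty.cancel_left_of_respectsIso @IsProper]
    exact isProper_snd_congr hjb _ h1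
  haveI : Surjective (pullback.snd π (pullback.fst g (A.t i))) := MorphismProperty.pullback_snd _ _ hπs
  haveI : UniversallyClosed (pullback.snd g (A.t i)) :=
    UniversallyClosed.of_comp_surjective (pullback.snd π (pullback.fst g (A.t i))) _
  exact { }

/-- Properness descends along affine limits. -/
theorem exists_at_isProper {J : Type u} [SmallCategory J] [IsCofiltered J] {S W : Scheme.{u}}
    [CompactSpace S] [QuasiSeparatedSpace S] (A : Sys J S) (g : W ⟶ S) [QuasiSeparated g]
    [LocallyOfFiniteType g] [QuasiCompact g] (h : AtLim A g @IsProper) : ∃ j, At A g @IsProper j := by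
  obtain ⟨i, hi⟩ := exists_at_isSeparated A g (by
    haveI : IsProper (pullback.snd g A.s) := h
    exact (inferInstance : IsSeparated (pullback.snd g A.s)))
  haveI : IsSeparated (pullback.snd g (A.t i)) := hi
  haveI := A.compactSpace_obj i
  haveI := A.quasiSeparatedSpace_obj i
  obtain ⟨φ, hφ⟩ := exists_at_isProper_of_isSeparated (restart A i) (pullback.snd g (A.t i))
    (atLim_restart A g _ i h)
  exact ⟨φ.left, at_restart A g hφ⟩

theorem eventual_isProper : Eventual.{u} @IsProper := by
  intro J _ _ Z W _ _ B g _ _ h
  exact exists_at_isProper B g h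

end ConsLib
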