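import Groth.Agent.ConsLib.Basic
import Groth.Agent.AlgSpLib.FpqcMore
import Mathlib.AlgebraicGeometry.ZariskisMainTheorem
import Mathlib.AlgebraicGeometry.Artinian

/-! Finiteness and radicial fibres are constructible properties. -/

set_option autoImplicit false

universe u

open CategoryTheory CategoryTheory.Limits AlgebraicGeometry Topology Groth.Agent

noncomputable section

namespace ConsLib

theorem cons_of_constructible {S : Scheme.{u}} [IrreducibleSpace S] {E : Set S}
    (hE : IsLocallyConstructible E) : (interior E).Nonempty ∨ (interior Eᶜ).Nonempty := by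
  by_cases h : genericPoint S ∈ E
  · exact .inl ⟨_, mem_interior_of_indConstructible (ProConsLib.isIndConstructible_of_isLocallyConstructible hE) h⟩
  · exact .inr ⟨_, mem_interior_of_indConstructible
      (ProConsLib.isIndConstructible_of_isLocallyConstructible (ProConsLib.isLocallyConstructible_compl hE)) h⟩

/-- The fibres of a finite type morphism are finite exactly off the image of the non quasi-finite points. -/
theorem locus_isFinite {X S : Scheme.{u}} (u : X ⟶ S) [LocallyOfFiniteType u] [QuasiCompact u] :
    ConsProp.locus (fun Y T g => IsFinite g) u = (u '' ((u.quasiFiniteLocus : Set X))ᶜ)ᶜ := by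
  ext s
  haveI : LocallyOfFiniteType (u.fiberToSpecResidueField s) := MorphismProperty.pullback_snd _ _ inferInstance
  haveI : QuasiCompact (u.fiberToSpecResidueField s) := MorphismProperty.pullback_snd _ _ inferInstance
  haveI : Subsingleton ↥(Spec (S.residueField s)) := inferInstanceAs (Subsingleton (PrimeSpectrum _))
  have key : IsFinite (u.fiberToSpecResidueField s) ↔ ∀ z : u.fiber s, IsOpen ({z} : Set (u.fiber s)) := by
    constructor
    · intro h z
      haveI := h
      haveI : IsLocallyArtinian (u.fiber s) := IsLocallyArtinian.of_locallyQuasiFinite (u.fiberToSpecResidueField s)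
      exact isOpen_discrete _
    · intro h
      haveI : DiscreteTopology (u.fiber s) := discreteTopology_iff_isOpen_singleton.mpr h
      haveI : LocallyQuasiFinite (u.fiberToSpecResidueField s) :=
        locallyQuasiFinite_iff_isDiscrete_preimage_singleton.mpr fun x => isDiscrete_univ_iff.mpr ‹_› |>.mono (Set.subset_univ _)
      exact IsFinite.of_locallyQuasiFinite _
  show IsFinite (u.fiberToSpecResidueField s) ↔ _
  rw [key]
  simp only [Set.mem_compl_iff, Set.mem_image, not_exists, not_and, SetLike.mem_coe]
  constructor
  · rintro h x hx rfl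
    exact hx (Scheme.Hom.quasiFiniteAt_iff_isOpen_singleton_asFiber.mpr (h _))
  · intro h z
    obtain ⟨⟨x, hx⟩, rfl⟩ := (u.fiberHomeo s).symm.surjective z
    have hxs : u x = s := hx
    subst hxs
    by_contra hn
    exact h x (fun hq => hn (Scheme.Hom.quasiFiniteAt_iff_isOpen_singleton_asFiber.mp hq)) rfl

theorem isCons_isFinite : ConsProp.IsCons (fun Y T g => IsFinite g : ∀ ⦃Y T : Scheme.{u}⦄, (Y ⟶ T) → Prop) := by
  constructor
  · intro Y Y' T T' g g' e h _ _ _ _ _ _ hc
    haveI : IsLocallyArtinian T := inferInstance
    haveI : IsLocallyArtinian T' := inferInstance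
    haveI : LocallyOfFiniteType g' := MorphismProperty.of_isPullback hc ‹LocallyOfFiniteType g›
    haveI : QuasiCompact g' := MorphismProperty.of_isPullback hc ‹QuasiCompact g›
    haveI : Surjective h := ⟨fun t => ⟨Classical.arbitrary T', Subsingleton.elim _ _⟩⟩
    haveI : QuasiCompact h := quasiCompact_of_compactSpace _
    refine ⟨fun H => MorphismProperty.of_isPullback (P := @IsFinite) hc H, fun H => ?_⟩
    haveI : IsFinite g' := H
    haveI : LocallyQuasiFinite g := MorphismProperty.of_isPullback_of_descendsAlong (P := @LocallyQuasiFinite)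
      (Q := @Surjective ⊓ @Flat ⊓ @QuasiCompact) hc.flip ⟨⟨inferInstance, inferInstance⟩, inferInstance⟩
      (inferInstance : LocallyQuasiFinite g')
    exact IsFinite.of_locallyQuasiFinite g
  · intro X S u _ _ _ _
    haveI := isNoetherian_of_ft u
    haveI : LocallyOfFinitePresentation u := LocallyOfFinitePresentation.iff_locallyOfFiniteType.2 inferInstance
    refine cons_of_constructible (locus_isFinite u ▸ ProConsLib.isLocallyConstructible_compl
      (u.isLocallyConstructible_image (ProConsLib.isLocallyConstructible_compl ?_)))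
    exact (IsCompact.isConstructible (TopologicalSpace.NoetherianSpace.isCompact _)
      u.quasiFiniteLocus.2).isLocallyConstructible

/-- The radicial fibres are those off the image of the complement of the diagonal. -/
theorem locus_universallyInjective {X S : Scheme.{u}} (u : X ⟶ S) :
    ConsProp.locus (fun Y T g => UniversallyInjective g) u =
      ((pullback.snd u u ≫ u) '' (Set.range (pullback.diagonal u))ᶜ)ᶜ := by
  ext s
  let p := u.fiberToSpecResidueField s
  let ι := u.fiberι s
  let σ := S.fromSpecResidueField s
  have sq1 : IsPullback ι p u σ := IsPullback.of_hasPullback u σ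
  let Φ : pullback p p ⟶ pullback u u := pullback.lift (pullback.fst p p ≫ ι) (pullback.snd p p ≫ ι)
    (by rw [Category.assoc, Category.assoc, sq1.w, reassoc_of% (pullback.condition (f := p) (g := p))])
  have sq2 : IsPullback Φ (pullback.snd p p) (pullback.snd u u) ι := by
    have h : IsPullback (Φ ≫ pullback.fst u u) (pullback.snd p p) u (ι ≫ u) := by
      rw [pullback.lift_fst, sq1.w]
      exact (IsPullback.of_hasPullback p p).paste_horiz sq1
    exact IsPullback.of_right h (pullback.lift_snd _ _ _) (IsPullback.of_hasPullback u u)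
  have sq := sq2.paste_vert sq1
  haveI : IsPreimmersion Φ := MorphismProperty.of_isPullback (P := @IsPreimmersion) sq.flip inferInstance
  have hd : pullback.diagonal p ≫ Φ = ι ≫ pullback.diagonal u := by
    apply pullback.hom_ext
    · calc (pullback.diagonal p ≫ Φ) ≫ pullback.fst u u
          = (pullback.diagonal p ≫ pullback.fst p p) ≫ ι := by
            rw [Category.assoc, Category.assoc]; exact congrArg _ (pullback.lift_fst _ _ _)
        _ = ι := by rw [pullback.diagonal_fst, Category.id_comp]
        _ = (ι ≫ pullback.diagonal u) ≫ pullback.fst u u := by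
            rw [Category.assoc, pullback.diagonal_fst, Category.comp_id]
    · calc (pullback.diagonal p ≫ Φ) ≫ pullback.snd u u
          = (pullback.diagonal p ≫ pullback.snd p p) ≫ ι := by
            rw [Category.assoc, Category.assoc]; exact congrArg _ (pullback.lift_snd _ _ _)
        _ = ι := by rw [pullback.diagonal_snd, Category.id_comp]
        _ = (ι ≫ pullback.diagonal u) ≫ pullback.snd u u := by
            rw [Category.assoc, pullback.diagonal_snd, Category.comp_id]
  show UniversallyInjective p ↔ _
  rw [UniversallyInjective.iff_diagonal]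
  simp only [Set.mem_compl_iff, Set.mem_image, not_exists, not_and]
  constructor
  · intro h z hz hzs
    obtain ⟨w, hw, -⟩ := Scheme.exists_preimage_of_isPullback sq z
      (IsLocalRing.closedPoint (S.residueField s)) (hzs.trans (S.fromSpecResidueField_apply s _).symm)
    obtain ⟨v, rfl⟩ := h.surj w
    exact hz ⟨ι v, by rw [← Scheme.Hom.comp_apply, ← hd, Scheme.Hom.comp_apply, hw]⟩
  · intro h
    refine ⟨fun w => ?_⟩
    have hzs : (pullback.snd u u ≫ u) (Φ w) = s := by
      rw [← Scheme.Hom.comp_apply, sq.w, Scheme.Hom.comp_apply]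
      exact S.fromSpecResidueField_apply s _
    obtain ⟨x, hx⟩ : Φ w ∈ Set.range (pullback.diagonal u) := by
      by_contra hn; exact h _ hn hzs
    have hxs : u x = s := by
      rw [← hx, ← Scheme.Hom.comp_apply, pullback.diagonal_snd_assoc] at hzs
      exact hzs
    obtain ⟨v, rfl⟩ : x ∈ Set.range ι := by rw [u.range_fiberι]; exact hxs
    exact ⟨v, Φ.isEmbedding.injective (by rw [← Scheme.Hom.comp_apply, hd, Scheme.Hom.comp_apply, hx])⟩

theorem isCons_universallyInjective :
    ConsProp.IsCons (fun Y T g => UniversallyInjective g : ∀ ⦃Y T : Scheme.{u}⦄, (Y ⟶ T) → Prop) := by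
  constructor
  · intro Y Y' T T' g g' e h _ _ _ _ _ _ hc
    haveI : Surjective h := ⟨fun t => ⟨Classical.arbitrary T', Subsingleton.elim _ _⟩⟩
    haveI : IsLocallyArtinian T := inferInstance
    haveI : QuasiCompact h := quasiCompact_of_compactSpace _
    exact ⟨fun H => MorphismProperty.of_isPullback (P := @UniversallyInjective) hc H,
      fun H => MorphismProperty.of_isPullback_of_descendsAlong (P := @UniversallyInjective)
        (Q := @Surjective ⊓ @Flat ⊓ @QuasiCompact) hc.flip ⟨⟨inferInstance, inferInstance⟩, inferInstance⟩ H⟩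
  · intro X S u _ _ _ _
    haveI := isNoetherian_of_ft u
    haveI := isNoetherian_of_ft (pullback.snd u u ≫ u)
    haveI : LocallyOfFinitePresentation (pullback.snd u u ≫ u) :=
      LocallyOfFinitePresentation.iff_locallyOfFiniteType.2 inferInstance
    haveI : LocallyOfFiniteType (pullback.diagonal u ≫ pullback.snd u u) := by
      rw [pullback.diagonal_snd]; infer_instance
    haveI : LocallyOfFiniteType (pullback.diagonal u) := locallyOfFiniteType_of_comp _ (pullback.snd u u)
    haveI : LocallyOfFinitePresentation (pullback.diagonal u) :=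
      LocallyOfFinitePresentation.iff_locallyOfFiniteType.2 inferInstance
    haveI : QuasiCompact (pullback.diagonal u) := quasiCompact_of_compactSpace _
    refine cons_of_constructible (locus_universallyInjective u ▸ ProConsLib.isLocallyConstructible_compl
      ((pullback.snd u u ≫ u).isLocallyConstructible_image (ProConsLib.isLocallyConstructible_compl ?_)))
    rw [← Set.image_univ]
    exact (pullback.diagonal u).isLocallyConstructible_image .univ

theorem isConsMor_congr {P Q : ∀ ⦃X Y T : Scheme.{u}⦄, (X ⟶ Y) → (Y ⟶ T) → Prop}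
    (h : ∀ ⦃X Y T : Scheme.{u}⦄ (f : X ⟶ Y) (g : Y ⟶ T) [IsIntegral T] [Subsingleton T]
      [LocallyOfFiniteType g] [QuasiCompact g] [LocallyOfFiniteType (f ≫ g)] [QuasiCompact (f ≫ g)],
      P f g ↔ Q f g) (hP : ConsProp.IsConsMor P) : ConsProp.IsConsMor Q := by
  constructor
  · intro X X' Y Y' T T' f g f' g' eX eY hh _ _ _ _ _ _ _ _ hY hX
    haveI : LocallyOfFiniteType g' := MorphismProperty.of_isPullback hY ‹LocallyOfFiniteType g›
    haveI : QuasiCompact g' := MorphismProperty.of_isPullback hY ‹QuasiCompact g›
    haveI : LocallyOfFiniteType (f' ≫ g') := MorphismProperty.of_isPullback (hX.paste_vert hY) ‹LocallyOfFiniteType (f ≫ g)›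
    haveI : QuasiCompact (f' ≫ g') := MorphismProperty.of_isPullback (hX.paste_vert hY) ‹QuasiCompact (f ≫ g)›
    rw [← h f g, ← h f' g']
    exact hP.1 f g f' g' eX eY hh hY hX
  · intro X Y S f g _ _ _ _ _ _
    have e : ConsProp.locusMor Q f g = ConsProp.locusMor P f g := Set.ext fun s => by
      haveI : Subsingleton ↥(Spec (S.residueField s)) := inferInstanceAs (Subsingleton (PrimeSpectrum _))
      have e1 : MoreMor.fiberMap f g s ≫ g.fiberToSpecResidueField s = (f ≫ g).fiberToSpecResidueField s :=
        pullback.lift_snd _ _ _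
      haveI : LocallyOfFiniteType (g.fiberToSpecResidueField s) := MorphismProperty.pullback_snd _ _ inferInstance
      haveI : QuasiCompact (g.fiberToSpecResidueField s) := MorphismProperty.pullback_snd _ _ inferInstance
      haveI : LocallyOfFiniteType (MoreMor.fiberMap f g s ≫ g.fiberToSpecResidueField s) := by
        rw [e1]; exact MorphismProperty.pullback_snd _ _ inferInstance
      haveI : QuasiCompact (MoreMor.fiberMap f g s ≫ g.fiberToSpecResidueField s) := by
        rw [e1]; exact MorphismProperty.pullback_snd _ _ inferInstance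
      exact (h _ _).symm
    rw [e]
    exact hP.2 f g

theorem ft_of_overField {X Y T : Scheme.{u}} (f : X ⟶ Y) (g : Y ⟶ T) [IsIntegral T] [Subsingleton T]
    [LocallyOfFiniteType g] [LocallyOfFiniteType (f ≫ g)] [QuasiCompact (f ≫ g)] :
    LocallyOfFiniteType f ∧ QuasiCompact f := by
  haveI : IsLocallyArtinian T := inferInstance
  haveI : IsLocallyNoetherian Y := LocallyOfFiniteType.isLocallyNoetherian g
  exact ⟨locallyOfFiniteType_of_comp f g, QuasiCompact.of_comp f g⟩

theorem isConsMor_quasiFinite : ConsProp.IsConsMor
    (fun X Y T f g => LocallyOfFiniteType f ∧ QuasiCompact f ∧ LocallyQuasiFinite f :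
      ∀ ⦃X Y T : Scheme.{u}⦄, (X ⟶ Y) → (Y ⟶ T) → Prop) := by
  refine isConsMor_congr ?_ (isConsMor_forall_fiber isCons_isFinite)
  intro X Y T f g _ _ _ _ _ _
  obtain ⟨h1, h2⟩ := ft_of_overField f g
  exact ⟨fun h => ⟨h1, h2, locallyQuasiFinite_iff_isFinite_fiber.mpr h⟩,
    fun h => locallyQuasiFinite_iff_isFinite_fiber.mp h.2.2⟩

theorem universallyInjective_iff_fibres {X Y : Scheme.{u}} (f : X ⟶ Y) :
    UniversallyInjective f ↔ ∀ y : Y, UniversallyInjective (f.fiberToSpecResidueField y) := by
  refine ⟨fun h y => MorphismProperty.pullback_snd _ _ h, fun h => ?_⟩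
  rw [UniversallyInjective.iff_diagonal]
  refine ⟨fun z => ?_⟩
  by_contra hn
  have hl := Set.ext_iff.mp (locus_universallyInjective f) ((pullback.snd f f ≫ f) z)
  exact hl.mp (h _) ⟨z, hn, rfl⟩

theorem isConsMor_universallyInjective : ConsProp.IsConsMor
    (fun X Y T f g => UniversallyInjective f : ∀ ⦃X Y T : Scheme.{u}⦄, (X ⟶ Y) → (Y ⟶ T) → Prop) := by
  refine isConsMor_congr ?_ (isConsMor_forall_fiber isCons_universallyInjective)
  intro X Y T f g _ _ _ _ _ _
  exact (universallyInjective_iff_fibres f).symm

end ConsLib
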