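import Groth.Agent.ConsLib.General

/-! A constructible property holds everywhere over a limit iff it does over a stage. -/

set_option autoImplicit false

universe u

open CategoryTheory CategoryTheory.Limits AlgebraicGeometry Topology Groth.Agent

noncomputable section

namespace ConsLib

variable {I : Type u} [SmallCategory I] [IsCofiltered I] (D : I ⥤ Scheme.{u}) (c : Cone D) (hc : IsLimit c)
  [∀ (i j : I) (a : i ⟶ j), IsAffineHom (D.map a)] (i₀ : I) [CompactSpace (D.obj i₀)]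

include hc in
theorem forall_mem_locusMor_iff {P : ∀ ⦃X Y T : Scheme.{u}⦄, (X ⟶ Y) → (Y ⟶ T) → Prop}
    (hP : ConsProp.IsIndConsMor P) {X₀ Y₀ : Scheme.{u}} (f₀ : X₀ ⟶ Y₀) (g₀ : Y₀ ⟶ D.obj i₀)
    [LocallyOfFinitePresentation g₀] [QuasiCompact g₀] [QuasiSeparated g₀]
    [LocallyOfFinitePresentation (f₀ ≫ g₀)] [QuasiCompact (f₀ ≫ g₀)] [QuasiSeparated (f₀ ≫ g₀)]
    {X Y : Scheme.{u}} (f : X ⟶ Y) (g : Y ⟶ c.pt) (qY : Y ⟶ Y₀) (qX : X ⟶ X₀)
    (hY : IsPullback qY g g₀ (c.π.app i₀)) (hX : IsPullback qX f f₀ qY) :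
    (∀ s : ↥c.pt, s ∈ ConsProp.locusMor P f g) ↔
      ∃ (j : I) (φ : j ⟶ i₀) (Xj Yj : Scheme.{u}) (fj : Xj ⟶ Yj) (gj : Yj ⟶ D.obj j)
        (pY : Yj ⟶ Y₀) (pX : Xj ⟶ X₀), IsPullback pY gj g₀ (D.map φ) ∧ IsPullback pX fj f₀ pY ∧
          ∀ t : ↥(D.obj j), t ∈ ConsProp.locusMor P fj gj := by
  have e := locusMor_preimage hP.1 hY hX
  constructor
  · intro h
    obtain ⟨j, φ, hφ⟩ := exists_stage_subset D c hc i₀ (isIndConstructible_locusMor hP f₀ g₀)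
      (fun s => by simpa [e] using h s)
    have hYj := IsPullback.of_hasPullback g₀ (D.map φ)
    have hXj := IsPullback.of_hasPullback f₀ (pullback.fst g₀ (D.map φ))
    refine ⟨j, φ, _, _, pullback.snd f₀ (pullback.fst g₀ (D.map φ)), pullback.snd g₀ (D.map φ),
      pullback.fst g₀ (D.map φ), pullback.fst _ _, hYj, hXj, fun t => ?_⟩
    rw [locusMor_preimage hP.1 hYj hXj]
    exact hφ t
  · rintro ⟨j, φ, Xj, Yj, fj, gj, pY, pX, hYj, hXj, h⟩ s
    rw [e]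
    have h' := h (c.π.app j s)
    rw [locusMor_preimage hP.1 hYj hXj, Set.mem_preimage, ← Scheme.Hom.comp_apply, c.w] at h'
    exact h'

include hc in
theorem forall_mem_locusPair_iff {P : ∀ ⦃X Y T : Scheme.{u}⦄, (X ⟶ T) → (Y ⟶ T) → Prop}
    (hP : ConsPropPair.IsIndConsPair P) {X₀ Y₀ : Scheme.{u}} (u₀ : X₀ ⟶ D.obj i₀) (v₀ : Y₀ ⟶ D.obj i₀)
    [LocallyOfFinitePresentation u₀] [QuasiCompact u₀] [QuasiSeparated u₀]
    [LocallyOfFinitePresentation v₀] [QuasiCompact v₀] [QuasiSeparated v₀]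
    {X Y : Scheme.{u}} (u : X ⟶ c.pt) (v : Y ⟶ c.pt) (qX : X ⟶ X₀) (qY : Y ⟶ Y₀)
    (hX : IsPullback qX u u₀ (c.π.app i₀)) (hY : IsPullback qY v v₀ (c.π.app i₀)) :
    (∀ s : ↥c.pt, s ∈ ConsPropPair.locusPair P u v) ↔
      ∃ (j : I) (φ : j ⟶ i₀) (Xj Yj : Scheme.{u}) (uj : Xj ⟶ D.obj j) (vj : Yj ⟶ D.obj j)
        (pX : Xj ⟶ X₀) (pY : Yj ⟶ Y₀), IsPullback pX uj u₀ (D.map φ) ∧ IsPullback pY vj v₀ (D.map φ) ∧
          ∀ t : ↥(D.obj j), t ∈ ConsPropPair.locusPair P uj vj := by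
  have e := locusPair_preimage hP.1 hX hY
  constructor
  · intro h
    obtain ⟨j, φ, hφ⟩ := exists_stage_subset D c hc i₀ (isIndConstructible_locusPair hP u₀ v₀)
      (fun s => by simpa [e] using h s)
    refine ⟨j, φ, _, _, pullback.snd u₀ (D.map φ), pullback.snd v₀ (D.map φ), pullback.fst _ _, pullback.fst _ _,
      IsPullback.of_hasPullback _ _, IsPullback.of_hasPullback _ _, fun t => ?_⟩
    rw [locusPair_preimage hP.1 (IsPullback.of_hasPullback u₀ (D.map φ)) (IsPullback.of_hasPullback v₀ (D.map φ))]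
    exact hφ t
  · rintro ⟨j, φ, Xj, Yj, uj, vj, pX, pY, hXj, hYj, h⟩ s
    rw [e]
    have h' := h (c.π.app j s)
    rw [locusPair_preimage hP.1 hXj hYj, Set.mem_preimage, ← Scheme.Hom.comp_apply, c.w] at h'
    exact h'

end ConsLib
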