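import Groth.Agent.ConsLib.Basic
import Groth.Prelude.Def_W4ega4s0809p4Pair
import Mathlib.AlgebraicGeometry.Artinian

/-! Pairs of schemes over a field related by a morphism with a given property after some extension. -/

set_option autoImplicit false

universe u

open CategoryTheory CategoryTheory.Limits AlgebraicGeometry Topology Groth.Agent

noncomputable section

namespace ConsLib

variable (Q : ∀ ⦃A B : Scheme.{u}⦄, (A ⟶ B) → Prop)

/-- There is a morphism with the property after some extension of the field. -/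
def ExistsHom ⦃X Y T : Scheme.{u}⦄ (gX : X ⟶ T) (gY : Y ⟶ T) : Prop :=
  ∃ (T' X' Y' : Scheme.{u}) (h : T' ⟶ T) (gX' : X' ⟶ T') (gY' : Y' ⟶ T')
    (eX : X' ⟶ X) (eY : Y' ⟶ Y), IsIntegral T' ∧ Subsingleton ↥T' ∧
      IsPullback eX gX' gX h ∧ IsPullback eY gY' gY h ∧ ∃ g : X' ⟶ Y', g ≫ gY' = gX' ∧ Q g

/-- The property is stable under base change. -/
def StableBC : Prop :=
  ∀ ⦃A A' B B' : Scheme.{u}⦄ (g : A ⟶ B) (g' : A' ⟶ B') (a : A' ⟶ A) (b : B' ⟶ B),
    IsPullback a g' g b → Q g → Q g'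

variable {Q}

/-- Base change of a witness. -/
theorem exists_baseChange (hQ : StableBC Q) {X' Y' T' X₁ Y₁ T₁ : Scheme.{u}} {gX' : X' ⟶ T'} {gY' : Y' ⟶ T'}
    {t : T₁ ⟶ T'} {aX : X₁ ⟶ X'} {aY : Y₁ ⟶ Y'} {gX₁ : X₁ ⟶ T₁} {gY₁ : Y₁ ⟶ T₁}
    (hX : IsPullback aX gX₁ gX' t) (hY : IsPullback aY gY₁ gY' t) (g : X' ⟶ Y') (hg : g ≫ gY' = gX')
    (hgQ : Q g) : ∃ g₁ : X₁ ⟶ Y₁, g₁ ≫ gY₁ = gX₁ ∧ Q g₁ := by
  let g₁ : X₁ ⟶ Y₁ := hY.lift (aX ≫ g) gX₁ (by rw [Category.assoc, hg, hX.w])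
  refine ⟨g₁, hY.lift_snd _ _ _, hQ g g₁ aX aY ?_ hgQ⟩
  refine IsPullback.of_bot ?_ (hY.lift_fst _ _ _).symm hY
  rw [hY.lift_snd, hg]
  exact hX

theorem exists_point {T₁ T₂ T : Scheme.{u}} (a : T₁ ⟶ T) (b : T₂ ⟶ T) [Subsingleton T] [Nonempty T₁]
    [Nonempty T₂] : ∃ (K : Scheme.{u}) (p : K ⟶ T₁) (q : K ⟶ T₂), IsIntegral K ∧ Subsingleton ↥K ∧ p ≫ a = q ≫ b := by
  obtain ⟨z, -, -⟩ := Scheme.Pullback.exists_preimage_pullback (f := a) (g := b) (Classical.arbitrary T₁)
    (Classical.arbitrary T₂) (Subsingleton.elim _ _)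
  let σ := (pullback a b).fromSpecResidueField z
  exact ⟨_, σ ≫ pullback.fst a b, σ ≫ pullback.snd a b, inferInstance, inferInstanceAs (Subsingleton (PrimeSpectrum _)),
    by rw [Category.assoc, Category.assoc, pullback.condition]⟩

theorem isFieldStablePair_existsHom (hQ : StableBC Q) : ConsPropPair.IsFieldStablePair (ExistsHom Q) := by
  intro X X' Y Y' T T' gX gY gX' gY' eX eY h _ _ _ _ _ _ _ _ hX hY
  constructor
  · rintro ⟨U, A, B, k, gA, gB, eA, eB, hU, hUs, hA, hB, g, hg, hgQ⟩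
    obtain ⟨K, p, q, hK, hKs, hpq⟩ := exists_point k h
    let A₁ := pullback gA p
    let B₁ := pullback gB p
    obtain ⟨g₁, hg₁, hg₁Q⟩ := exists_baseChange hQ (IsPullback.of_hasPullback gA p) (IsPullback.of_hasPullback gB p) g hg hgQ
    have hA₁ := (IsPullback.of_hasPullback gA p).paste_horiz hA
    have hB₁ := (IsPullback.of_hasPullback gB p).paste_horiz hB
    rw [hpq] at hA₁ hB₁
    refine ⟨K, A₁, B₁, q, pullback.snd gA p, pullback.snd gB p, hX.lift (pullback.fst gA p ≫ eA)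
      (pullback.snd gA p ≫ q) (by rw [hA₁.w, Category.assoc]), hY.lift (pullback.fst gB p ≫ eB)
      (pullback.snd gB p ≫ q) (by rw [hB₁.w, Category.assoc]), hK, hKs, ?_, ?_, g₁, hg₁, hg₁Q⟩
    · refine IsPullback.of_right ?_ (hX.lift_snd _ _ _) hX
      rw [hX.lift_fst]; exact hA₁
    · refine IsPullback.of_right ?_ (hY.lift_snd _ _ _) hY
      rw [hY.lift_fst]; exact hB₁
  · rintro ⟨U, A, B, k, gA, gB, eA, eB, hU, hUs, hA, hB, g, hg, hgQ⟩
    exact ⟨U, A, B, k ≫ h, gA, gB, eA ≫ eX, eB ≫ eY, hU, hUs, hA.paste_horiz hX, hB.paste_horiz hY, g, hg, hgQ⟩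

/-- A model over a scheme of finite type over the base yields witnesses over its image. -/
theorem mem_locusPair_of_model (hQ : StableBC Q) {X Y S W : Scheme.{u}} (u : X ⟶ S) (v : Y ⟶ S) (w : W ⟶ S)
    (g : pullback u w ⟶ pullback v w) (hg : g ≫ pullback.snd v w = pullback.snd u w) (hgQ : Q g) (b : W) :
    w b ∈ ConsPropPair.locusPair (ExistsHom Q) u v := by
  let β := W.fromSpecResidueField b
  let h := Spec.map (w.residueFieldMap b)
  obtain ⟨g₁, hg₁, hg₁Q⟩ := exists_baseChange hQ (IsPullback.of_hasPullback (pullback.snd u w) β)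
    (IsPullback.of_hasPullback (pullback.snd v w) β) g hg hgQ
  have hw : β ≫ w = h ≫ S.fromSpecResidueField (w b) := by simp [β, h]
  have hX := (IsPullback.of_hasPullback (pullback.snd u w) β).paste_horiz (IsPullback.of_hasPullback u w)
  have hY := (IsPullback.of_hasPullback (pullback.snd v w) β).paste_horiz (IsPullback.of_hasPullback v w)
  rw [hw] at hX hY
  have hfX : IsPullback (u.fiberι (w b)) (u.fiberToSpecResidueField (w b)) u (S.fromSpecResidueField (w b)) :=
    IsPullback.of_hasPullback u _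
  have hfY : IsPullback (v.fiberι (w b)) (v.fiberToSpecResidueField (w b)) v (S.fromSpecResidueField (w b)) :=
    IsPullback.of_hasPullback v _
  refine ⟨_, _, _, h, pullback.snd _ β, pullback.snd _ β,
    hfX.lift (pullback.fst _ β ≫ pullback.fst u w) (pullback.snd _ β ≫ h) (by rw [hX.w, Category.assoc]),
    hfY.lift (pullback.fst _ β ≫ pullback.fst v w) (pullback.snd _ β ≫ h) (by rw [hY.w, Category.assoc]),
    inferInstance, inferInstanceAs (Subsingleton (PrimeSpectrum _)), ?_, ?_, g₁, hg₁, hg₁Q⟩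
  · refine IsPullback.of_right ?_ (hfX.lift_snd _ _ _) hfX
    rw [hfX.lift_fst]; exact hX
  · refine IsPullback.of_right ?_ (hfY.lift_snd _ _ _) hfY
    rw [hfY.lift_fst]; exact hY

theorem interior_nonempty_of_model (hQ : StableBC Q) {X Y S W : Scheme.{u}} [IsIntegral S] [IsNoetherian S]
    (u : X ⟶ S) (v : Y ⟶ S) (w : W ⟶ S) [LocallyOfFiniteType w] [QuasiCompact w] (hw : genericPoint S ∈ Set.range w)
    (g : pullback u w ⟶ pullback v w) (hg : g ≫ pullback.snd v w = pullback.snd u w) (hgQ : Q g) :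
    (interior (ConsPropPair.locusPair (ExistsHom Q) u v)).Nonempty := by
  haveI : LocallyOfFinitePresentation w := LocallyOfFinitePresentation.iff_locallyOfFiniteType.2 inferInstance
  refine ⟨genericPoint S, interior_mono (by rintro _ ⟨b, rfl⟩; exact mem_locusPair_of_model hQ u v w g hg hgQ b)
    (mem_interior_of_indConstructible ?_ hw)⟩
  rw [← Set.image_univ]
  exact ProConsLib.isIndConstructible_of_isLocallyConstructible (w.isLocallyConstructible_image .univ)

end ConsLib
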