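import Groth.Agent.ConsLib.PairModel
import Groth.Agent.RichLib.FibreRangeFU

/-! Properties which descend along affine limits over noetherian targets. -/

set_option autoImplicit false

universe u

open CategoryTheory CategoryTheory.Limits AlgebraicGeometry Topology RichLib.LimBC

noncomputable section

namespace ConsLib

theorem eventual_isIso : Eventual (MorphismProperty.isomorphisms Scheme.{u}) := by
  intro J _ _ Z W _ _ B g _ _ h
  haveI : LocallyOfFinitePresentation g := LocallyOfFinitePresentation.iff_locallyOfFiniteType.2 inferInstance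
  exact exists_at_isIso B g h

theorem eventual_isClosedImmersion : Eventual.{u} @IsClosedImmersion := by
  intro J _ _ Z W _ _ B g _ _ h
  exact exists_at_isClosedImmersion B g h

theorem eventual_isOpenImmersion : Eventual.{u} @IsOpenImmersion := by
  intro J _ _ Z W _ _ B g _ _ h
  haveI : LocallyOfFinitePresentation g := LocallyOfFinitePresentation.iff_locallyOfFiniteType.2 inferInstance
  exact exists_at_isOpenImmersion B g h

theorem eventual_isImmersion : Eventual.{u} @IsImmersion := by
  intro J _ _ Z W _ _ B g _ _ h
  exact exists_at_isImmersion B g h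

theorem eventual_isAffineHom : Eventual.{u} @IsAffineHom := by
  intro J _ _ Z W _ _ B g _ _ h
  exact exists_at_isAffineHom B g h

theorem eventual_isFinite : Eventual.{u} @IsFinite := by
  intro J _ _ Z W _ _ B g _ _ h
  exact exists_at_isFinite B g h

theorem eventual_isSeparated : Eventual.{u} @IsSeparated := by
  intro J _ _ Z W _ _ B g _ _ h
  exact exists_at_isSeparated B g h

theorem eventual_qf : Eventual.{u} (@LocallyOfFiniteType ⊓ (@QuasiCompact ⊓ @LocallyQuasiFinite)) := by
  intro J _ _ Z W _ _ B g _ _ h
  obtain ⟨i, hi⟩ := exists_at_locallyQuasiFinite B g h.2.2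
  exact ⟨i, MorphismProperty.pullback_snd _ _ inferInstance, MorphismProperty.pullback_snd _ _ inferInstance, hi⟩

/-- A property detected by a constructible subset of the base descends. -/
theorem exists_at_of_bad {J : Type u} [SmallCategory J] [IsCofiltered J] {Z W : Scheme.{u}} [IsNoetherian Z]
    (B : Sys J Z) (g : W ⟶ Z) (P : MorphismProperty Scheme.{u}) {E : Set Z} (hE : IsLocallyConstructible E)
    (hP : ∀ {T : Scheme.{u}} (t : T ⟶ Z), P (pullback.snd g t) ↔ t ⁻¹' E = ∅) (h : AtLim B g P) :
    ∃ j, At B g P j := by
  obtain ⟨i⟩ := IsCofiltered.nonempty (C := J)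
  haveI : ∀ (i j : J) (f : i ⟶ j), IsAffineHom (B.D.map f) := fun _ _ f => B.affine_map f
  haveI := B.compactSpace_obj i
  haveI := B.affine i
  obtain ⟨j, φ, hj⟩ := RichLib.FibreRange.exists_preimage_eq_empty B.D B.c B.hc (i := i)
    (E := B.t i ⁻¹' E) ((B.t i).isConstructible_preimage hE.isConstructible) (by
      show (B.c.π.app i ≫ B.t i) ⁻¹' E = ∅
      rw [B.hs i]
      exact (hP B.s).1 h)
  refine ⟨j, (hP (B.t j)).2 ?_⟩
  rw [← B.w φ]
  exact hj

theorem isPullback_id {Z T : Scheme.{u}} (t : T ⟶ Z) : IsPullback t (𝟙 T) (𝟙 Z) t :=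
  IsPullback.of_vert_isIso ⟨by simp⟩



theorem eventual_surjective : Eventual.{u} @Surjective := by
  intro J _ _ Z W _ _ B g _ _ h
  haveI : LocallyOfFinitePresentation g := LocallyOfFinitePresentation.iff_locallyOfFiniteType.2 inferInstance
  exact exists_at_of_bad B g _ (RichLib.FibreRange.isLocallyConstructible_badSurj g (𝟙 Z))
    (fun t => RichLib.FibreRange.surjective_iff (isPullback_id t) (IsPullback.of_hasPullback g t)) h

theorem eventual_universallyInjective : Eventual.{u} @UniversallyInjective := by
  intro J _ _ Z W _ _ B g _ _ h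
  haveI : LocallyOfFinitePresentation g := LocallyOfFinitePresentation.iff_locallyOfFiniteType.2 inferInstance
  exact exists_at_of_bad B g _ (RichLib.FibreRange.isLocallyConstructible_badUI g (𝟙 Z))
    (fun t => RichLib.FibreRange.universallyInjective_iff (isPullback_id t) (IsPullback.of_hasPullback g t)) h

theorem eventual_mono : Eventual (MorphismProperty.monomorphisms Scheme.{u}) := by
  intro J _ _ Z W _ _ B g _ _ h
  haveI : LocallyOfFinitePresentation g := LocallyOfFinitePresentation.iff_locallyOfFiniteType.2 inferInstance
  exact exists_at_of_bad B g _ (RichLib.FibreRange.isLocallyConstructible_badMono g (𝟙 Z))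
    (fun t => RichLib.FibreRange.mono_iff (isPullback_id t) (IsPullback.of_hasPullback g t)) h


end ConsLib
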