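import Groth.Agent.ConsLib.Pair
import Groth.Agent.ConsLib.FGSystem
import Groth.Agent.RichLib.LimitDescentProps

/-! Descent of a witness over a field to a model of finite type over the base. -/

set_option autoImplicit false

universe u

open CategoryTheory CategoryTheory.Limits AlgebraicGeometry Topology RichLib.LimBC

noncomputable section

namespace ConsLib

/-- Descent of the property along affine limits, over noetherian targets. -/
def Eventual (Q : MorphismProperty Scheme.{u}) : Prop :=
  ∀ {J : Type u} [SmallCategory J] [IsCofiltered J] {Z W : Scheme.{u}} [IsNoetherian Z] [IsNoetherian W]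
    (B : Sys J Z) (g : W ⟶ Z) [LocallyOfFiniteType g] [QuasiCompact g],
      AtLim B g Q → ∃ j, At B g Q j

theorem stableBC {Q : MorphismProperty Scheme.{u}} [Q.IsStableUnderBaseChange] :
    StableBC (fun _ _ g => Q g) := fun _ _ _ _ _ _ _ _ h hg => MorphismProperty.of_isPullback h hg

variable {Q : MorphismProperty Scheme.{u}} [Q.IsStableUnderBaseChange]

/-- The property transported along an isomorphism of base change data. -/
theorem of_isPullback_iso {X Y Y' X' : Scheme.{u}} {g : X ⟶ Y} {b : Y' ⟶ Y} {a : X' ⟶ X} {g' : X' ⟶ Y'}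
    {Z : Scheme.{u}} {z : Z ⟶ Y} (e : Y' ⟶ Z) [IsIso e] (he : e ≫ z = b)
    (sq : IsPullback a g' g b) (h : Q (pullback.snd g z)) : Q g' := by
  have h1 : (g' ≫ e) ≫ z = a ≫ g := by rw [Category.assoc, he, sq.w]
  refine MorphismProperty.of_isPullback (P := Q) (f := e) (f' := pullback.lift a (g' ≫ e) h1.symm) ?_ h
  refine IsPullback.of_right ?_ (pullback.lift_snd _ _ _) (IsPullback.of_hasPullback g z)
  rw [pullback.lift_fst, he]
  exact sq

variable {I : Type u} [SmallCategory I] [IsCofiltered I] {U : Scheme.{u}} (A : Sys I U)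

/-- Descent of a morphism with the property to a stage. -/
theorem exists_stage_hom (hQe : Eventual Q) [IsNoetherian U] (hft : ∀ i, LocallyOfFiniteType (A.t i))
    {X Y : Scheme.{u}} (u : X ⟶ U) (v : Y ⟶ U) [LocallyOfFiniteType u] [QuasiCompact u]
    [LocallyOfFiniteType v] [QuasiCompact v] (g : pullback u A.s ⟶ pullback v A.s)
    (hg : g ≫ pullback.snd v A.s = pullback.snd u A.s) (hgQ : Q g) :
    ∃ (i : I) (gi : pullback u (A.t i) ⟶ pullback v (A.t i)),
      gi ≫ pullback.snd v (A.t i) = pullback.snd u (A.t i) ∧ Q gi := by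
  haveI := isNoetherian_of_ft u
  haveI := isNoetherian_of_ft v
  haveI : LocallyOfFinitePresentation v := LocallyOfFinitePresentation.iff_locallyOfFiniteType.2 inferInstance
  let P := pb A u
  haveI : ∀ {i j : I} (f : i ⟶ j), IsAffineHom (P.D.map f) := fun f => P.affine_map f
  haveI := P.compactSpace_obj
  haveI := P.quasiSeparatedSpace_obj
  have hgs : (g ≫ pullback.fst v A.s) ≫ v = pullback.fst u A.s ≫ u := by
    rw [Category.assoc, pullback.condition, reassoc_of% hg, pullback.condition]
  obtain ⟨i, γ, hγ, hγv⟩ := Scheme.exists_π_app_comp_eq_of_locallyOfFinitePresentation P.D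
    { app := fun i => pullback.fst u (A.t i) ≫ u
      naturality := fun i j a => by
        show pbMap A u a ≫ pullback.fst u (A.t j) ≫ u = (pullback.fst u (A.t i) ≫ u) ≫ 𝟙 _
        rw [pbMap_fst_assoc, Category.comp_id] }
    v P.c P.hc (g ≫ pullback.fst v A.s) (by
      ext i
      show pbπ A u i ≫ pullback.fst u (A.t i) ≫ u = (g ≫ pullback.fst v A.s) ≫ v
      rw [pbπ_fst_assoc, hgs])
  obtain ⟨γ, hγ', hγv'⟩ : ∃ γ' : pullback u (A.t i) ⟶ Y,
      pbπ A u i ≫ γ' = g ≫ pullback.fst v A.s ∧ γ' ≫ v = pullback.fst u (A.t i) ≫ u := ⟨γ, hγ, hγv⟩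
  let gi : pullback u (A.t i) ⟶ pullback v (A.t i) :=
    pullback.lift γ (pullback.snd u (A.t i)) (by rw [hγv', pullback.condition])
  have sq0 : IsPullback (pbπ A u i) g gi (pbπ A v i) := by
    refine IsPullback.of_bot ?_ ?_ (isPullback_cone A v i)
    · rw [hg, pullback.lift_snd]
      exact isPullback_cone A u i
    · apply pullback.hom_ext
      · rw [Category.assoc, Category.assoc, pullback.lift_fst, hγ', pbπ_fst]
      · rw [Category.assoc, Category.assoc, pullback.lift_snd, pbπ_snd, pbπ_snd, reassoc_of% hg]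
  haveI := hft i
  haveI := A.affine i
  haveI : LocallyOfFiniteType (pullback.fst v (A.t i)) := MorphismProperty.pullback_fst _ _ (hft i)
  haveI : LocallyOfFiniteType (pullback.fst u (A.t i)) := MorphismProperty.pullback_fst _ _ (hft i)
  haveI := isNoetherian_of_ft (pullback.fst v (A.t i))
  haveI := isNoetherian_of_ft (pullback.fst u (A.t i))
  haveI : LocallyOfFiniteType (pullback.snd u (A.t i)) := MorphismProperty.pullback_snd _ _ inferInstance
  haveI : LocallyOfFiniteType (gi ≫ pullback.snd v (A.t i)) := by rw [pullback.lift_snd]; infer_instance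
  haveI : LocallyOfFiniteType gi := locallyOfFiniteType_of_comp gi (pullback.snd v (A.t i))
  haveI : QuasiCompact gi := quasiCompact_of_compactSpace _
  let R := pb (restart A i) (pullback.snd v (A.t i))
  have hlim : AtLim R gi Q := by
    show Q (pullback.snd gi (pullback.fst (pullback.snd v (A.t i)) (A.c.π.app i)))
    have e := (isPullback_cone A v i).isoPullback
    have hX' : IsPullback (pbπ A u i) (g ≫ (isPullback_cone A v i).isoPullback.hom) gi
        (pullback.fst (pullback.snd v (A.t i)) (A.c.π.app i)) :=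
      sq0.of_iso (Iso.refl _) (Iso.refl _) (isPullback_cone A v i).isoPullback (Iso.refl _)
        (by simp) (by simp) (by simp) (by simp)
    rw [← hX'.isoPullback_inv_snd, MorphismProperty.cancel_left_of_respectsIso Q,
      MorphismProperty.cancel_right_of_respectsIso Q]
    exact hgQ
  obtain ⟨φ, hφ⟩ := hQe R gi hlim
  have hu := isPullback_map A u φ.hom
  have hv := isPullback_map A v φ.hom
  let gj : pullback u (A.t φ.left) ⟶ pullback v (A.t φ.left) :=
    hv.lift (pbMap A u φ.hom ≫ gi) (pullback.snd u (A.t φ.left))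
      (by rw [Category.assoc, pullback.lift_snd, pbMap_snd])
  refine ⟨φ.left, gj, hv.lift_snd _ _ _, ?_⟩
  have sqj : IsPullback (pbMap A u φ.hom) gj gi (pbMap A v φ.hom) := by
    refine IsPullback.of_bot ?_ (hv.lift_fst _ _ _).symm hv
    rw [hv.lift_snd, pullback.lift_snd]
    exact hu
  exact of_isPullback_iso (z := pullback.fst (pullback.snd v (A.t i)) (A.D.map φ.hom))
    hv.isoPullback.hom hv.isoPullback_hom_fst sqj hφ

/-- The family clause. -/
theorem interior_nonempty_existsHom (hQe : Eventual Q) {X Y S : Scheme.{u}} [IsIntegral S] [IsNoetherian S]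
    (u : X ⟶ S) (v : Y ⟶ S) [LocallyOfFiniteType u] [QuasiCompact u] [LocallyOfFiniteType v] [QuasiCompact v]
    (hη : genericPoint S ∈ ConsPropPair.locusPair (ExistsHom (fun _ _ g => Q g)) u v) :
    (interior (ConsPropPair.locusPair (ExistsHom (fun _ _ g => Q g)) u v)).Nonempty := by
  obtain ⟨T, X', Y', h, gX, gY, eX, eY, hT, hTs, hX, hY, g, hg, hgQ⟩ := hη
  let η := genericPoint S
  obtain ⟨O, hO, hηO, -⟩ := exists_isAffineOpen_mem_and_subset (U := ⊤) (x := η) trivial
  haveI : IsAffine O.toScheme := hO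
  haveI : IsNoetherian O.toScheme := by
    haveI : IsLocallyNoetherian O.toScheme := LocallyOfFiniteType.isLocallyNoetherian O.ι
    exact { }
  haveI : QuasiCompact O.ι := quasiCompact_of_compactSpace _
  let σ := h ≫ S.fromSpecResidueField η
  have hr : Set.range σ ⊆ Set.range O.ι := by
    rintro _ ⟨z, rfl⟩
    rw [Scheme.Opens.range_ι]
    show (h ≫ S.fromSpecResidueField η) z ∈ O
    rw [Scheme.Hom.comp_apply, Scheme.fromSpecResidueField_apply]
    exact hηO
  haveI : IsAffine T := inferInstance
  let p : T ⟶ O.toScheme := IsOpenImmersion.lift O.ι σ hr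
  let A := homSys p.appTop O.toScheme.isoSpec
  let eT : A.c.pt ≅ T := homSysIso p.appTop O.toScheme.isoSpec ≪≫ T.isoSpec.symm
  have hft := homSys_lft p.appTop O.toScheme.isoSpec
  have hs : eT.inv ≫ A.s = p := by
    show (T.isoSpec.hom ≫ (homSysIso p.appTop O.toScheme.isoSpec).inv) ≫ A.s = p
    rw [Category.assoc, homSys_s, Scheme.isoSpec_hom_naturality_assoc, Iso.hom_inv_id, Category.comp_id]
  have hp : p ≫ O.ι = σ := IsOpenImmersion.lift_fac _ _ _
  let u' := pullback.snd u O.ι
  let v' := pullback.snd v O.ι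
  haveI : LocallyOfFiniteType u' := MorphismProperty.pullback_snd _ _ ‹LocallyOfFiniteType u›
  haveI : LocallyOfFiniteType v' := MorphismProperty.pullback_snd _ _ ‹LocallyOfFiniteType v›
  have hfib : ∀ {Z Z' : Scheme.{u}} (w : Z ⟶ S) (eZ : Z' ⟶ w.fiber η) (gZ : Z' ⟶ T),
      IsPullback eZ gZ (w.fiberToSpecResidueField η) h →
      ∃ e : pullback (pullback.snd w O.ι) A.s ≅ Z', e.hom ≫ gZ = pullback.snd _ A.s ≫ eT.hom := by
    intro Z Z' w eZ gZ hZ
    have h1 : IsPullback (eZ ≫ w.fiberι η) gZ w σ := hZ.paste_horiz (IsPullback.of_hasPullback w _)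
    have h2 : IsPullback (pullback.fst (pullback.snd w O.ι) A.s ≫ pullback.fst w O.ι)
        (pullback.snd (pullback.snd w O.ι) A.s ≫ eT.hom) w σ := by
      refine ((IsPullback.of_hasPullback (pullback.snd w O.ι) A.s).paste_horiz
        (IsPullback.of_hasPullback w O.ι)).of_iso (Iso.refl _) (Iso.refl _) eT (Iso.refl _)
        (by simp) (by simp) (by simp) ?_
      rw [Iso.refl_hom, Category.comp_id, ← hp, ← Iso.inv_comp_eq, ← Category.assoc, hs]
    exact ⟨h2.isoIsPullback _ _ h1, h2.isoIsPullback_hom_snd _ _ h1⟩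
  obtain ⟨eA, heA⟩ := hfib u eX gX hX
  obtain ⟨eB, heB⟩ := hfib v eY gY hY
  have heB' : eB.inv ≫ pullback.snd v' A.s = gY ≫ eT.inv := by
    rw [Iso.inv_comp_eq, reassoc_of% heB, Iso.hom_inv_id, Category.comp_id]
  obtain ⟨i, gi, hgi, hgiQ⟩ := exists_stage_hom A hQe hft u' v' (eA.hom ≫ g ≫ eB.inv)
    (by rw [Category.assoc, Category.assoc, heB', reassoc_of% hg, reassoc_of% heA, Iso.hom_inv_id, Category.comp_id])
    (by rw [MorphismProperty.cancel_left_of_respectsIso Q, MorphismProperty.cancel_right_of_respectsIso Q]; exact hgQ)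
  let w := A.t i ≫ O.ι
  haveI := hft i
  haveI := A.affine i
  have hu := (IsPullback.of_hasPullback u' (A.t i)).paste_horiz (IsPullback.of_hasPullback u O.ι)
  have hv := (IsPullback.of_hasPullback v' (A.t i)).paste_horiz (IsPullback.of_hasPullback v O.ι)
  have hw : η ∈ Set.range w := by
    refine ⟨(A.c.π.app i) (eT.inv (Classical.arbitrary T)), ?_⟩
    have e : eT.inv ≫ A.c.π.app i ≫ w = σ := by rw [← Category.assoc (A.c.π.app i), A.hs, reassoc_of% hs, hp]
    rw [← Scheme.Hom.comp_apply, ← Scheme.Hom.comp_apply, e]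
    show (h ≫ S.fromSpecResidueField η) _ = η
    rw [Scheme.Hom.comp_apply, Scheme.fromSpecResidueField_apply]
  refine interior_nonempty_of_model stableBC u v w hw (hu.isoPullback.inv ≫ gi ≫ hv.isoPullback.hom)
    (by rw [Category.assoc, Category.assoc, hv.isoPullback_hom_snd, hgi, hu.isoPullback_inv_snd]) ?_
  rw [MorphismProperty.cancel_left_of_respectsIso Q, MorphismProperty.cancel_right_of_respectsIso Q]
  exact hgiQ

theorem isIndConsPair_existsHom (hQe : Eventual Q) : ConsPropPair.IsIndConsPair (ExistsHom (fun _ _ g => Q g)) :=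
  ⟨isFieldStablePair_existsHom stableBC, fun _ _ _ u v _ _ _ _ _ _ hη => interior_nonempty_existsHom hQe u v hη⟩

end ConsLib
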