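import Groth.Prelude.Def_MoreMor
import Mathlib.AlgebraicGeometry.QuasiAffine
import Mathlib.AlgebraicGeometry.Morphisms.Affine
import Mathlib.AlgebraicGeometry.Morphisms.QuasiSeparated

/-! Quasi-affine morphisms are local on the target and stable under base change. -/

set_option autoImplicit false

universe u

open CategoryTheory CategoryTheory.Limits AlgebraicGeometry TopologicalSpace

noncomputable section

namespace ConsLib

/-- Quasi-affine morphisms. -/
abbrev qaHom : MorphismProperty Scheme.{u} := fun _ _ f => MoreMor.IsQuasiAffineHom f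

variable {X : Scheme.{u}}

theorem isQuasiAffine_basicOpen [X.IsQuasiAffine] (r : Γ(X, ⊤)) :
    Scheme.IsQuasiAffine (X.basicOpen r).toScheme := by
  haveI : CompactSpace (X.basicOpen r).toScheme :=
    isCompact_iff_compactSpace.mp (isCompact_basicOpen _ CompactSpace.isCompact_univ r)
  exact .of_isImmersion (X.basicOpen r).ι

theorem isQuasiAffine_congr {X Y : Scheme.{u}} (e : X ⟶ Y) [IsIso e] (h : X.IsQuasiAffine) : Y.IsQuasiAffine :=
  haveI := h; .of_isAffineHom (inv e)

theorem isQuasiAffine_of_basicOpen (s : Set Γ(X, ⊤)) (hs : Ideal.span s = ⊤)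
    (h : ∀ r ∈ s, Scheme.IsQuasiAffine (X.basicOpen r).toScheme) : X.IsQuasiAffine := by
  obtain ⟨s', hs', e⟩ := (Ideal.span_eq_top_iff_finite _).mp hs
  have hc := iSup_basicOpen_of_span_eq_top _ _ e
  have hK : ∀ r ∈ s', CompactSpace (X.basicOpen r).toScheme := fun r hr => (h r (hs' hr)).1
  haveI : CompactSpace X := by
    rw [← isCompact_univ_iff, ← Opens.coe_top, ← hc]
    simp only [Finset.mem_coe, Opens.iSup_mk, Opens.carrier_eq_coe, Opens.coe_mk]
    exact s'.isCompact_biUnion fun r hr => isCompact_iff_compactSpace.mpr (hK r hr)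
  haveI : QuasiSeparatedSpace X := by
    refine .of_isOpenCover (U := fun r : s' => X.basicOpen r.1) ?_ (fun _ => isRetrocompact_basicOpen _) (fun r => ?_)
    · exact (iSup_subtype'' _ _).trans hc
    · haveI := h r.1 (hs' r.2)
      exact (isQuasiSeparated_iff_quasiSeparatedSpace _ (X.basicOpen r.1).2).mpr
        (inferInstance : QuasiSeparatedSpace (X.basicOpen r.1).toScheme)
  refine .of_forall_exists_mem_basicOpen X fun x => ?_
  obtain ⟨g, hgs, hxg⟩ : ∃ g ∈ s', x ∈ X.basicOpen g := by
    have hx : x ∈ ⨆ g ∈ (s' : Set Γ(X, ⊤)), X.basicOpen g := by rw [hc]; trivial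
    simpa using hx
  haveI := h g (hs' hgs)
  let U := X.basicOpen g
  obtain ⟨_, ⟨_, ⟨t, ht, rfl⟩, rfl⟩, hxt, -⟩ := (Scheme.IsQuasiAffine.isBasis_basicOpen
    U.toScheme).exists_subset_of_mem_open (Set.mem_univ (⟨x, hxg⟩ : U)) isOpen_univ
  let t' : Γ(X, U) := U.topIso.hom t
  have hT : IsAffineOpen (X.basicOpen t') ∧ x ∈ X.basicOpen t' := by
    have he : U.ι ''ᵁ U.toScheme.basicOpen t = X.basicOpen t' := by
      simp only [t', Scheme.image_basicOpen, Scheme.Opens.ι_appIso, Iso.refl_inv, Scheme.Opens.topIso_hom,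
        Scheme.basicOpen_res]
      exact ((inf_eq_right.mpr ((X.basicOpen_le _).trans U.ι_image_top.le)).symm.trans
        (X.basicOpen_res (V := U) t (eqToHom U.ι_image_top.symm).op).symm)
    rw [← he]
    exact ⟨ht.image_of_isOpenImmersion U.ι, ⟨x, hxg⟩, hxt, rfl⟩
  obtain ⟨n, a, ha⟩ := exists_eq_pow_mul_of_isCompact_of_isQuasiSeparated X ⊤ CompactSpace.isCompact_univ
    isQuasiSeparated_univ g t'
  dsimp only [TopCat.Presheaf.restrictOpenCommRingCat_apply] at ha
  have hga : X.basicOpen (g * a) = X.basicOpen t' := by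
    have h2 := congrArg X.basicOpen ha
    rw [Scheme.basicOpen_res, Scheme.basicOpen_mul] at h2
    rw [Scheme.basicOpen_mul, h2]
    refine inf_eq_right.mpr ((X.basicOpen_le t').trans (le_of_eq ?_))
    exact (X.basicOpen_of_isUnit ((RingedSpace.isUnit_res_basicOpen _ g).pow n)).symm
  exact ⟨g * a, hga ▸ hT.1, hga ▸ hT.2⟩

instance : HasAffineProperty qaHom.{u} (fun X _ _ _ => X.IsQuasiAffine) where
  isLocal_affineProperty := by
    constructor
    · apply AffineTargetMorphismProperty.respectsIso_mk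
      · rintro X Y Z e _ _ H
        exact isQuasiAffine_congr e.inv H
      · exact fun _ _ _ => id
    · intro X Y _ f r H
      haveI : X.IsQuasiAffine := H
      refine isQuasiAffine_congr (X.isoOfEq (Scheme.preimage_basicOpen_top f r)).inv ?_
      exact isQuasiAffine_basicOpen _
    · intro X Y _ f S hS hS'
      apply_fun Ideal.map (f.appTop).hom at hS
      rw [Ideal.map_span, Ideal.map_top] at hS
      refine isQuasiAffine_of_basicOpen _ hS ?_
      rintro _ ⟨r, hr, rfl⟩
      exact isQuasiAffine_congr (X.isoOfEq (Scheme.preimage_basicOpen_top f r)).hom (hS' ⟨r, hr⟩)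
  eq_targetAffineLocally' := by
    ext X Y f
    refine ⟨fun h U => h.2 U.1 U.2, fun h => ⟨?_, fun V hV => h ⟨V, hV⟩⟩⟩
    refine quasiCompact_iff_forall_isAffineOpen.mpr fun V hV => ?_
    haveI : Scheme.IsQuasiAffine (f ⁻¹ᵁ V).toScheme := h ⟨V, hV⟩
    exact isCompact_iff_compactSpace.mpr (inferInstance : CompactSpace (f ⁻¹ᵁ V).toScheme)

instance : qaHom.{u}.IsStableUnderBaseChange := by
  apply HasAffineProperty.isStableUnderBaseChange
  letI := HasAffineProperty.isLocal_affineProperty qaHom.{u}
  apply AffineTargetMorphismProperty.IsStableUnderBaseChange.mk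
  intro X Y S _ _ f g H
  haveI : Y.IsQuasiAffine := H
  haveI : IsAffineHom (pullback.snd f g) := MorphismProperty.pullback_snd _ _ inferInstance
  exact Scheme.IsQuasiAffine.of_isAffineHom (pullback.snd f g)

end ConsLib
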