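import Groth.Agent.ConsLib.PairApps
import Groth.Agent.ConsLib.QAffHom

/-! Quasi-affineness descends along affine limits. -/

set_option autoImplicit false

universe u

open CategoryTheory CategoryTheory.Limits AlgebraicGeometry Topology RichLib.LimBC

noncomputable section

namespace ConsLib

theorem exists_at_qaHom {J : Type u} [SmallCategory J] [IsCofiltered J] {S W : Scheme.{u}}
    [CompactSpace S] (A : Sys J S) (g : W ⟶ S) [QuasiCompact g] [QuasiSeparated g]
    (h : AtLim A g qaHom) : ∃ i, At A g qaHom i := by
  refine exists_at_of_local A g _ h fun {U} ι _ _ hU => ?_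
  let B := pb A ι
  let g' := pullback.snd g ι
  haveI : CompactSpace ↥(pullback g ι) := QuasiCompact.compactSpace_of_compactSpace g'
  haveI : QuasiSeparatedSpace ↥(pullback g ι) := quasiSeparatedSpace_of_quasiSeparated g'
  let C := pb B g'
  haveI : ∀ {i j : J} (f : i ⟶ j), IsAffineHom (C.D.map f) := fun f => C.affine_map f
  haveI := C.compactSpace_obj
  haveI := C.quasiSeparatedSpace_obj
  haveI : IsAffineHom B.s := B.affine_s
  haveI : IsAffine B.c.pt := isAffine_of_isAffineHom B.s
  haveI : Scheme.IsQuasiAffine C.c.pt :=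
    (HasAffineProperty.iff_of_isAffine (P := qaHom.{u}) (f := pullback.snd g' B.s)).mp hU
  obtain ⟨i, hi⟩ := Scheme.exists_isQuasiAffine_of_isLimit C.D C.c C.hc
  haveI := B.affine i
  haveI : IsAffine (B.D.obj i) := isAffine_of_isAffineHom (B.t i)
  exact ⟨i, (HasAffineProperty.iff_of_isAffine (P := qaHom.{u})).mpr hi⟩

theorem eventual_qaHom : Eventual.{u} qaHom := by
  intro J _ _ Z W _ _ B g _ _ h
  exact exists_at_qaHom B g h

end ConsLib
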